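import Mathlib
import Cfsg.Agent.Lib.ON2.Defs
import Cfsg.Agent.Lib.OTI2.Bas1
import Cfsg.Agent.Lib.ZStar.Main
import Cfsg.Agent.Lib.WAb.Idx
import Cfsg.Agent.Lib.Tech.Invol

/-! Semisimple subgroups (package SEM).  See `plans/ON2.md`. -/

set_option autoImplicit false
set_option linter.unusedSectionVars false
set_option linter.unusedVariables false

namespace CfsgLib.ON2

open Subgroup MulAction CfsgLib.Tech CfsgLib.OTI2

universe u

variable {G : Type u} [Group G] [Finite G] {T C D H Y R : Subgroup G}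

theorem ns_exists_ncomm (h : NS C) : ∃ a ∈ C, ∃ b ∈ C, a * b ≠ b * a := by
  by_contra! k
  exact h.ncomm ⟨⟨fun a b => Subtype.ext (k _ a.2 _ b.2)⟩⟩

theorem ns_le_of_mem (h : NS C) (hY : C ≤ normalizer (Y : Set G)) {a : G} (ha : a ∈ C) (haY : a ∈ Y)
    (h1 : a ≠ 1) : C ≤ Y :=
  inf_eq_left.1 ((h.normal inf_le_left ((le_inf le_normalizer hY).trans
    inf_normalizer_le_normalizer_inf)).resolve_left fun e => h1 (mem_bot.1 (e.le ⟨ha, haY⟩)))

omit [Finite G] in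
theorem exists_mul_of_sup (h : Y ≤ normalizer (R : Set G)) {z : G} (hz : z ∈ R ⊔ Y) :
    ∃ r ∈ R, ∃ y ∈ Y, r * y = z := by
  rw [← SetLike.mem_coe, coe_mul_of_right_le_normalizer_left _ _ h] at hz
  exact hz

omit [Finite G] in
theorem mem_normalizer_sup {g : G} (h1 : g ∈ normalizer (R : Set G)) (h2 : g ∈ normalizer (Y : Set G)) :
    g ∈ normalizer ((R ⊔ Y : Subgroup G) : Set G) := by
  rw [mem_normalizer_iff_cj] at *
  rw [cj_sup, h1, h2]

/-- induction over the factors -/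
theorem semi_ind (hT : Semi T) {p : Subgroup G → Prop} (h0 : p ⊥)
    (h1 : ∀ M C, Fac T C → (∀ m ∈ M, ∀ a ∈ C, m * a = a * m) → p M → p (M ⊔ C)) : p T := by
  obtain ⟨M, ⟨m1, m2, m3⟩, hM⟩ := exists_maximal_of_wellFoundedGT
    (fun M : Subgroup G => M ≤ T ∧ T ≤ normalizer (M : Set G) ∧ p M)
    ⟨⊥, bot_le, le_normalizer_of_normal, h0⟩
  refine m1.antisymm (hT M fun C hC => ?_) ▸ m3
  by_contra k
  refine k (le_sup_right.trans (hM ⟨sup_le m1 hC.le, fun g hg => mem_normalizer_sup (m2 hg) (hC.nrm hg),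
    h1 M C hC (fun m hm a ha => ?_) m3⟩ le_sup_left))
  by_contra e
  refine k (ns_le_of_mem hC.toNS (hC.le.trans m2) (a := m * a * m⁻¹ * a⁻¹)
    (mul_mem ((mem_normalizer_iff.1 (hC.nrm (m1 hm)) a).1 ha) (inv_mem ha)) ?_ fun e' => e ?_)
  · simpa only [mul_assoc, inv_inv] using
      mul_mem hm ((mem_normalizer_iff.1 (m2 (hC.le ha)) _).1 (inv_mem hm))
  · rwa [mul_inv_eq_one, mul_inv_eq_iff_eq_mul] at e'

theorem fac_cj (hC : Fac T C) {g : G} (hg : g ∈ normalizer (T : Set G)) : Fac T (cj g C) := by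
  have := hC.cj g
  rwa [mem_normalizer_iff_cj.1 hg] at this

theorem fac_comm_cj (hC : Fac T C) {g a b : G} (hg : g ∈ normalizer (T : Set G))
    (hm : g ∉ normalizer (C : Set G)) (ha : a ∈ C) (hb : b ∈ C) :
    g * a * g⁻¹ * b = b * (g * a * g⁻¹) :=
  (fac_cj hC hg).comm hC (mt mem_normalizer_iff_cj.2 hm) (conj_mem_cj.2 ha) hb

theorem fac_mem_normalizer (hC : Fac T C) {g a : G} (hg : g ∈ normalizer (T : Set G)) (ha : a ∈ C)
    (h1 : a ≠ 1) (h : g * a * g⁻¹ ∈ C) : g ∈ normalizer (C : Set G) := by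
  by_contra hm
  exact h1 (conj_eq_one_iff.1 ((fac_cj hC hg).eq_one hC (mt mem_normalizer_iff_cj.2 hm) (conj_mem_cj.2 ha) h))

theorem comm_of_fac (hT : Semi T) {g : G} (h : ∀ C, Fac T C → ∀ a ∈ C, g * a = a * g) :
    ∀ a ∈ T, g * a = a * g := fun _ ha => (mem_centralizer_singleton_iff.1 (hT (centralizer {g})
  (fun C hC a ha => mem_centralizer_singleton_iff.2 (h C hC a ha).symm) ha)).symm

theorem eq_one_of_fac (hT : Semi T) {z : G} (hz : z ∈ T)
    (h : ∀ C, Fac T C → ∀ a ∈ C, z * a = a * z) : z = 1 := by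
  refine semi_ind hT (p := fun M => z ∈ M → z = 1) mem_bot.1 (fun M C hC hc ih k => ih ?_) hz
  obtain ⟨c, hc', m, hm, rfl⟩ := exists_mul_of_sup (R := C) (Y := M)
    (fun m hm => centralizer_le_normalizer _ fun a ha => (hc m hm a ha).symm) (sup_comm M C ▸ k)
  rwa [hC.toNS.eq_one_of_central hc' fun a ha => mul_right_cancel (b := m) (by
    rw [mul_assoc, ← hc m hm a ha, ← mul_assoc, h C hC a ha, mul_assoc]), one_mul]

theorem exists_prj (hT : Semi T) (hC : Fac T C) {s : G} (hs : s ∈ T) :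
    ∃ c ∈ C, ∀ a ∈ C, s * a * s⁻¹ = c * a * c⁻¹ := by
  obtain ⟨c, hc, z, hz, rfl⟩ := exists_mul_of_sup (centralizer_le_normalizer _)
    (hT (C ⊔ centralizer C) (fun D hD => by
      by_cases e : C = D
      · exact e ▸ le_sup_left
      · exact le_sup_of_le_right fun b hb a ha => hC.comm hD e ha hb) hs)
  exact ⟨c, hc, fun a ha => by rw [mul_assoc c, ← hz a ha]; group⟩

theorem exists_prod (hT : Semi T) {g : G}
    (h : ∀ C, Fac T C → ∃ s ∈ C, s ∈ H ∧ ∀ a ∈ C, g * a * g⁻¹ = s * a * s⁻¹) :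
    ∃ s ∈ T, s ∈ H ∧ ∀ a ∈ T, g * a * g⁻¹ = s * a * s⁻¹ := by
  refine semi_ind hT (p := fun M => ∃ s ∈ M, s ∈ H ∧ ∀ a ∈ M, g * a * g⁻¹ = s * a * s⁻¹)
    ⟨1, one_mem _, one_mem _, fun a ha => by simp [mem_bot.1 ha]⟩ fun M C hC hc ⟨s, s1, s2, s3⟩ => ?_
  obtain ⟨c, c1, c2, c3⟩ := h C hC
  have k : ∀ a, g * a * g⁻¹ = s * c * a * (s * c)⁻¹ ↔ a ∈ centralizer {(s * c)⁻¹ * g} := fun a => by
    rw [mem_centralizer_singleton_iff]
    constructor <;> intro e
    · calc _ = (s * c)⁻¹ * (s * c * a * (s * c)⁻¹) * g := by group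
        _ = _ := by rw [← e]; group
    · calc _ = s * c * ((s * c)⁻¹ * g * a) * g⁻¹ := by group
        _ = _ := by rw [← e]; group
  refine ⟨s * c, mul_mem_sup s1 c1, mul_mem s2 c2, fun a ha => (k a).2 ((sup_le
    (fun a ha => (k a).1 ?_) (fun a ha => (k a).1 ?_) : M ⊔ C ≤ centralizer {(s * c)⁻¹ * g}) ha)⟩
  · rw [s3 a ha, mul_assoc s c, ← hc a ha c c1]; group
  · rw [c3 a ha, show s * c * a * (s * c)⁻¹ = s * (c * a * c⁻¹) * s⁻¹ by group,
      hc s s1 _ (mul_mem (mul_mem c1 ha) (inv_mem c1)), mul_inv_cancel_right]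

theorem le_of_move (hC : Fac T C) {g : G} (hg : g ∈ normalizer (T : Set G))
    (hm : g ∉ normalizer (C : Set G)) (hY : C ≤ normalizer (Y : Set G))
    (h : ∀ a ∈ C, g * a * g⁻¹ * a⁻¹ ∈ Y) : C ≤ Y := by
  obtain ⟨a, ha, b, hb, e⟩ := ns_exists_ncomm hC.toNS
  refine ns_le_of_mem hC.toNS hY (a := a * b * a⁻¹ * b⁻¹)
    (mul_mem (mul_mem (mul_mem ha hb) (inv_mem ha)) (inv_mem hb)) ?_ fun e' => e ?_
  · have := mul_mem (inv_mem (h a ha)) ((mem_normalizer_iff.1 (hY hb) _).1 (h a ha))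
    rw [← mul_assoc b, ← fac_comm_cj hC hg hm ha hb] at this
    convert this using 1
    group
  · rwa [mul_inv_eq_one, mul_inv_eq_iff_eq_mul] at e'

theorem le_of_not_comm (hC : Fac T C) {g : G} (hg : g ∈ normalizer (T : Set G)) (hgY : g ∈ Y)
    (hY : C ≤ normalizer (Y : Set G)) (h : ∃ a ∈ C, g * a ≠ a * g) : C ≤ Y := by
  have k : ∀ a ∈ C, g * a * g⁻¹ * a⁻¹ ∈ Y := fun a ha => by
    simpa only [mul_assoc] using mul_mem hgY ((mem_normalizer_iff.1 (hY ha) _).1 (inv_mem hgY))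
  by_cases hm : g ∈ normalizer (C : Set G)
  · obtain ⟨a, ha, e⟩ := h
    refine ns_le_of_mem hC.toNS hY (mul_mem ((mem_normalizer_iff.1 hm a).1 ha) (inv_mem ha)) (k a ha)
      fun e' => e ?_
    rwa [mul_inv_eq_one, mul_inv_eq_iff_eq_mul] at e'
  · exact le_of_move hC hg hm hY k

/-- the elements of the strip of an involution `t` moving `C` commute with `t` -/
theorem strip_comm (hC : Fac T C) {t a : G} (ht : t ∈ normalizer (T : Set G)) (h2 : t * t = 1)
    (hm : t ∉ normalizer (C : Set G)) (ha : a ∈ C) :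
    a * (t * a * t⁻¹) * t = t * (a * (t * a * t⁻¹)) := by
  rw [← fac_comm_cj hC ht hm ha ha, ← mul_left_inj t⁻¹, mul_inv_cancel_right, ← mul_assoc, ← mul_assoc,
    ← mul_assoc, h2, fac_comm_cj hC ht hm ha ha, inv_eq_of_mul_eq_one_right h2]
  group

theorem eq_of_strip (hC : Fac T C) {t : G} (ht : t ∈ normalizer (T : Set G))
    (hm : t ∉ normalizer (C : Set G)) (hR : R ≤ C)
    (h : ∀ a ∈ C, a * (t * a * t⁻¹) ∈ normalizer (R : Set G)) : R = ⊥ ∨ R = C := hC.toNS.normal hR fun a ha => (mul_mem_cancel_right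
  (centralizer_le_normalizer _ fun _ hr => (fac_comm_cj hC ht hm ha (hR hr)).symm)).1 (h a ha)

theorem mem_normalizer_of_strip (hC : Fac T C) {t g : G} (ht : t ∈ normalizer (T : Set G))
    (h2 : t * t = 1) (hm : t ∉ normalizer (C : Set G)) (hg : g ∈ normalizer (T : Set G))
    (h : ∀ a ∈ C, g * (a * (t * a * t⁻¹)) = a * (t * a * t⁻¹) * g) :
    (∀ a ∈ C, g * a = a * g) ∨ ∀ a ∈ C, t * g * a = a * (t * g) := by
  have k : ∀ g ∈ normalizer (C : Set G), (∀ a ∈ C, g * (a * (t * a * t⁻¹)) = a * (t * a * t⁻¹) * g) →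
      ∀ a ∈ C, g * a = a * g := fun g hg h a ha => by
    have e : a⁻¹ * (g * a * g⁻¹) = t * a * t⁻¹ * (g * (t * a * t⁻¹)⁻¹ * g⁻¹) := by
      calc _ = a⁻¹ * (g * (a * (t * a * t⁻¹))) * ((t * a * t⁻¹)⁻¹ * g⁻¹) := by group
        _ = _ := by rw [h a ha]; group
    have := hC.toNS.eq_one_of_central (mul_mem (inv_mem ha) ((mem_normalizer_iff.1 hg a).1 ha))
      fun b hb => by
        have h1 : Commute (t * a * t⁻¹) b := fac_comm_cj hC ht hm ha hb
        have h3 : Commute (t * a * t⁻¹) (g⁻¹ * b * g) :=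
          fac_comm_cj hC ht hm ha ((mem_normalizer_iff''.1 hg b).1 hb)
        have h4 := h3.inv_left.conj g
        rw [show g * (g⁻¹ * b * g) * g⁻¹ = b by group] at h4
        rw [e]
        exact h1.mul_left h4
    rwa [inv_mul_eq_one, eq_comm, mul_inv_eq_iff_eq_mul] at this
  by_cases h1 : g ∈ normalizer (C : Set G)
  · exact .inl (k g h1 h)
  by_cases h3 : t * g ∈ normalizer (C : Set G)
  · exact .inr (k _ h3 fun a ha => by
      rw [mul_assoc, h a ha, ← mul_assoc, ← strip_comm hC ht h2 hm ha, mul_assoc _ t])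
  obtain ⟨a, ha, b, hb, e⟩ := ns_exists_ncomm hC.toNS
  have c1 : Commute (g * b * g⁻¹) a := fac_comm_cj hC hg h1 hb ha
  have c2 : Commute (t * g * b * (t * g)⁻¹) a := fac_comm_cj hC (mul_mem ht hg) h3 hb ha
  have c3 := c2.conj t
  rw [show t * (t * g * b * (t * g)⁻¹) * t⁻¹ = t * t * (g * b * g⁻¹) * (t * t)⁻¹ by group, h2, one_mul,
    inv_one, mul_one] at c3
  have c4 := c1.mul_right c3
  rw [← mul_inv_eq_iff_eq_mul.2 (h a ha), Commute.conj_iff] at c4
  have c5 : Commute (t * a * t⁻¹) b := fac_comm_cj hC ht hm ha hb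
  have c6 := c4.mul_right c5.symm.inv_right
  rw [mul_inv_cancel_right] at c6
  exact absurd c6.symm.eq e

/-- a subgroup of `T` normalised by a strip and not centralising `C` contains an involution of
weight at most two, if it meets neither `C` nor its conjugate -/
theorem exists_invol_of_strip (hT : Semi T) (hC : Fac T C) {t : G}
    (ht : t ∈ normalizer (T : Set G)) (h2 : t * t = 1) (hm : t ∉ normalizer (C : Set G))
    (hR : R ≤ T) (h : ∀ a ∈ C, a * (t * a * t⁻¹) ∈ normalizer (R : Set G))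
    (h1 : ∀ r ∈ R, r ∈ C → r = 1) (h1' : ∀ r ∈ R, r ∈ cj t C → r = 1)
    (hn : ∃ r ∈ R, ∃ a ∈ C, r * a ≠ a * r) : ∃ v ∈ R, orderOf v = 2 ∧ wt T v ≤ 2 := by
  have hD := fac_cj hC ht
  have hne : cj t C ≠ C := mt mem_normalizer_iff_cj.2 hm
  obtain ⟨r, hr, hn⟩ := hn
  have k : C ≤ cj t C ⊔ R := le_of_not_comm hC (le_normalizer (hR hr)) (mem_sup_right hr)
    (fun a ha => (mul_mem_cancel_right (le_normalizer (mem_sup_left (conj_mem_cj.2 ha)))).1
      (mem_normalizer_sup (hD.nrm (mul_mem (hC.le ha) (hD.le (conj_mem_cj.2 ha)))) (h a ha))) hn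
  obtain ⟨c, hc, o⟩ : ∃ c : C, orderOf c = 2 ∧ True := by
    simpa using exists_prime_orderOf_dvd_card' 2 (dvd_trans (by decide) hC.toNS.four_dvd)
  obtain ⟨d, hd, v, hv, e⟩ := exists_mul_of_sup (hR.trans hD.nrm) (k c.2)
  obtain rfl : v = d⁻¹ * c := eq_inv_mul_of_mul_eq e
  have c1 : Commute d⁻¹ (c : G) := hD.comm hC hne (inv_mem hd) c.2
  have c2 : (c : G) ^ 2 = 1 := by rw [← hc, ← orderOf_coe, pow_orderOf_eq_one]
  refine ⟨_, hv, orderOf_eq_prime (h1' _ (pow_mem hv 2) ?_) fun e' => ?_, ?_⟩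
  · rw [c1.mul_pow, c2, mul_one]
    exact pow_mem (inv_mem hd) 2
  · rw [show c = 1 from Subtype.ext (hD.eq_one hC hne (inv_mul_eq_one.1 e' ▸ hd) c.2), orderOf_one] at hc
    exact absurd hc (by decide)
  · refine (Set.ncard_le_ncard (t := {C, cj t C}) fun E hE => ?_).trans
      ((Set.ncard_insert_le _ _).trans (by simp))
    obtain ⟨hE, a, ha, e'⟩ := hE
    by_contra! k
    simp only [Set.mem_insert_iff, Set.mem_singleton_iff, not_or] at k
    exact e' (Commute.mul_left (hD.comm hE (Ne.symm k.2) (inv_mem hd) ha) (hC.comm hE (Ne.symm k.1) c.2 ha))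

theorem exists_cj_of_min (hT : T ≤ H) (hn : H ≤ normalizer (T : Set G))
    (hmin : ∀ R : Subgroup G, R ≤ T → H ≤ normalizer (R : Set G) → R = ⊥ ∨ R = T)
    (hC : Fac T C) (hD : Fac T D) : ∃ g ∈ H, cj g C = D := by
  by_contra! k
  obtain ⟨a, ha, b, hb, e⟩ := ns_exists_ncomm hC.toNS
  obtain ⟨a', ha', b', hb', e'⟩ := ns_exists_ncomm hD.toNS
  rcases hmin (T ⊓ centralizer {x | ∃ g ∈ H, ∃ c ∈ C, x = g * c * g⁻¹}) inf_le_left (fun g hg =>
    mem_normalizer_of_cj_le (cj_le_iff.2 fun x hx => ⟨(mem_normalizer_iff.1 (hn hg) x).1 hx.1, by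
      rintro _ ⟨y, hy, c, hc, rfl⟩
      have : Commute _ x := hx.2 _ ⟨g⁻¹ * y, mul_mem (inv_mem hg) hy, c, hc, rfl⟩
      convert (this.conj g).eq using 2 <;> group⟩)) with h | h
  · refine e' ?_
    rw [mem_bot.1 (h.le ⟨hD.le ha', by
      rintro _ ⟨y, hy, c, hc, rfl⟩
      exact (fac_cj hC (hn hy)).comm hD (k y hy) (conj_mem_cj.2 hc) ha'⟩), one_mul, mul_one]
  · exact e ((h.ge (hC.le hb)).2 a ⟨1, one_mem _, a, ha, by group⟩)

theorem five_le_relIndex (h : NS C) (hR : R ≤ C) (hne : R ≠ C) : 5 ≤ R.relIndex C := by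
  have := h.simple
  exact WAb.five_le_index h.ncomm fun e => hne (hR.antisymm (subgroupOf_eq_top.1 e))

theorem five_le_orbit {X : Type u} [Finite X] [MulAction G X] (h : NS C) {w : X}
    (hw : ¬ C ≤ stabilizer G w) : 5 ≤ {p | ∃ c ∈ C, c • w = p}.ncard := by
  have := h.simple
  have := WAb.five_le_index h.ncomm (H := stabilizer C w) fun e => hw fun c hc => e.ge (mem_top (⟨c, hc⟩ : C))
  rw [index_stabilizer] at this
  convert this using 2
  exact Set.ext fun p => ⟨fun ⟨c, hc, e⟩ => ⟨⟨c, hc⟩, e⟩, fun ⟨c, e⟩ => ⟨c, c.2, e⟩⟩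

theorem exists_invol (h : NS C) : ∃ t ∈ C, orderOf t = 2 := by
  obtain ⟨c, hc⟩ := exists_prime_orderOf_dvd_card' 2 (dvd_trans (by decide) h.four_dvd)
  exact ⟨c, c.2, (orderOf_coe c).trans hc⟩

theorem exists_four (h : NS C) {t : G} (ht : t ∈ C) (h2 : orderOf t = 2) :
    ∃ s ∈ C, orderOf s = 2 ∧ s ≠ t ∧ s * t = t * s := by
  have := h.simple
  have := ZStar.not_isolated_of_simple h.ncomm ⟨t, ht⟩
  rw [Cfsg.IsIsolatedInvolution, ← orderOf_coe, not_and] at this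
  obtain ⟨g, c, e⟩ := by simpa only [not_forall, exists_prop] using this h2
  exact ⟨g * t * (g : G)⁻¹, mul_mem (mul_mem g.2 ht) (inv_mem g.2),
    (SemiconjBy.orderOf_eq (g : G) (SemiconjBy.conj_mk _ _)).symm.trans h2, fun k => e (Subtype.ext k),
    Subtype.ext_iff.1 c.symm.eq⟩

theorem exists_comm_invol (h : NS C) {P : Subgroup G} (hP : IsPGroup 2 P)
    (hn : P ≤ normalizer (C : Set G)) : ∃ s ∈ C, orderOf s = 2 ∧ ∀ t ∈ P, s * t = t * s := by
  obtain ⟨S, hS, h1⟩ := exists_isSylowIn_ge hP hn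
  have h2 := hS.inf_of_le_normalizer (N := C) le_rfl
  obtain ⟨v, hv, o, c⟩ := exists_mem_center_of_normalized hS.pgroup (N := S ⊓ C) inf_le_left
    ((le_inf le_normalizer hS.le).trans inf_normalizer_le_normalizer_inf) fun e => h2.not_dvd (by
      rw [e, inf_eq_right.2 le_normalizer, relIndex_bot_left]; exact dvd_trans (by decide) h.four_dvd)
  exact ⟨v, hv.2, o, fun t ht => (c t (h1 ht)).symm⟩

end CfsgLib.ON2
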