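import Mathlib
import Cfsg.Agent.Lib.ON2.Sem

/-! Equivariant families (package FAM).  See `plans/ON2.md`. -/

set_option autoImplicit false

namespace CfsgLib.ON2

open Subgroup MulAction CfsgLib.Tech CfsgLib.OTI2

universe u

variable {G : Type u} [Group G] [Finite G] {X : Type u} [Finite X] [MulAction G X]
  {S : X → Subgroup G} {M N : X → Subgroup G} {x y : X} {C D : Subgroup G}

theorem T2.exists_smul (h : T2 G X) (x y : X) : ∃ g : G, g • x = y := by
  by_cases e : x = y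
  · exact ⟨1, by rw [one_smul, e]⟩
  · obtain ⟨g, hg, -⟩ := h.two e (Ne.symm e)
    exact ⟨g, hg⟩

theorem Fam.cj_eq (h : Fam S) (g : G) (x : X) : cj g (S x) = S (g • x) := by
  refine le_antisymm (cj_le_iff.2 fun n hn => h.conj g hn) (le_cj_iff.2 fun n hn => ?_)
  simpa using h.conj g⁻¹ hn

theorem Fam.mem_normalizer (h : Fam S) {g : G} (hg : g • x = x) :
    g ∈ normalizer (S x : Set G) := by
  rw [mem_normalizer_iff_cj, h.cj_eq, hg]

theorem Fam.fac_cj (h : Fam S) (hC : Fac (S x) C) (g : G) : Fac (S (g • x)) (cj g C) := by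
  rw [← h.cj_eq]
  exact hC.cj g

theorem Fam.fac_fix (h : Fam S) (hC : Fac (S x) C) {c : G} (hc : c ∈ C) : c • x = x := by
  exact h.fix (hC.le hc)

theorem cj_le_stabilizer {g : G} : cj g C ≤ stabilizer G (g • x) ↔ C ≤ stabilizer G x := by
  rw [cj_le_iff]
  simp only [SetLike.le_def, mem_stabilizer_iff, mul_smul, inv_smul_smul, smul_left_cancel_iff]

theorem U.exists_fac (h : U S) (x : X) : ∃ C, Fac (S x) C := by
  obtain ⟨y, hy⟩ : ∃ y, x ≠ y := by
    obtain ⟨p, q, hpq⟩ := h.ntriv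
    by_contra! hc
    exact hpq ((hc p).symm.trans (hc q))
  obtain ⟨k, k1, -, k2⟩ := h.nti x y hy
  by_contra! hc
  exact k2 (mem_bot.1 (h.semi x ⊥ (fun C hC => absurd hC (hc C)) k1))

theorem U.exists_cj (h : U S) (hC : Fac (S x) C) (hD : Fac (S y) D) :
    ∃ g : G, g • x = y ∧ cj g C = D := by
  obtain ⟨g, rfl⟩ := h.toT2.exists_smul x y
  obtain ⟨g', k1, k2⟩ := h.tr _ _ _ (h.toFam.fac_cj hC g) hD
  exact ⟨g' * g, by rw [mul_smul, k1], by rw [cj_mul, k2]⟩

theorem U.card_eq (h : U S) (hC : Fac (S x) C) (hD : Fac (S y) D) : Nat.card C = Nat.card D := by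
  obtain ⟨g, -, rfl⟩ := h.exists_cj hC hD
  exact (card_cj g C).symm

/-- an element fixing `y` and acting on `S y` like an element `s` of `S y` is `s` -/
theorem U.eq_of_act (h : U S) {g s : G} (hg : g • y = y) (hs : s ∈ S y)
    (e : ∀ a ∈ S y, g * a * g⁻¹ = s * a * s⁻¹) : g = s := by
  have := h.cent y (s⁻¹ * g) (by rw [mul_smul, hg, h.fix (inv_mem hs)]) fun a ha => by
    rw [mul_assoc, mul_inv_eq_iff_eq_mul.1 (e a ha)]; group
  exact (inv_mul_eq_one.1 this).symm

theorem U.not_comm (h : U S) (hC : Fac (S x) C) (hy : C ≤ stabilizer G y) :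
    ∃ D, Fac (S y) D ∧ ∃ c ∈ C, ∃ d ∈ D, c * d ≠ d * c := by
  by_contra! hc
  have := hC.simple
  obtain ⟨⟨c, m⟩, c1⟩ := exists_ne (1 : C)
  exact c1 (Subtype.ext (h.cent y c (hy m) (comm_of_fac (h.semi y) fun D hD => hc D hD c m)))

theorem U.fixc (h : U S) (hC : Fac (S x) C) (hD : Fac (S y) D) (hne : C ≠ D)
    (hy : C ≤ stabilizer G y) (hx : D ≤ stabilizer G x) {c d : G} (hc : c ∈ C) (hd : d ∈ D) :
    c * d = d * c := by
  have key : ∀ {x y : X} {C D : Subgroup G}, Fac (S x) C → Fac (S y) D → C ≠ D → C ≤ stabilizer G y →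
      D ≤ stabilizer G x → D ≤ normalizer (C : Set G) := fun {x y C D} hC hD hne hy hx d hd => by
    by_contra hm
    have n := h.toFam.mem_normalizer (hx hd)
    have k : ∀ Y : Subgroup G, d ∈ Y → C ≤ normalizer (Y : Set G) → C ≤ Y := fun Y m k =>
      le_of_move hC n hm k fun a ha => by
        rw [mul_assoc, mul_assoc, ← mul_assoc a]
        exact mul_mem m (conj_mem_of_mem_normalizer (k ha) (inv_mem m))
    exact hne (eq_of_le_of_card_ge (k D hd ((k _ (hD.le hd) fun a ha => h.toFam.mem_normalizer (hy ha)).trans hD.nrm))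
      (h.card_eq hC hD).ge)
  have k1 := key hC hD hne hy hx
  have k2 := key hD hC hne.symm hx hy
  rcases hC.toNS.normal (R := C ⊓ D) inf_le_left (fun a ha => by
    rw [mem_normalizer_iff_cj, cj_inf, cj_eq_of_mem ha, mem_normalizer_iff_cj.1 (k2 ha)]) with e | e
  · have : c * d * c⁻¹ * d⁻¹ ∈ C ⊓ D := ⟨by
      rw [mul_assoc, mul_assoc, ← mul_assoc d]
      exact C.mul_mem hc (conj_mem_of_mem_normalizer (k1 hd) (C.inv_mem hc)),
      D.mul_mem (conj_mem_of_mem_normalizer (k2 hc) hd) (D.inv_mem hd)⟩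
    rwa [e, mem_bot, mul_inv_eq_one, mul_inv_eq_iff_eq_mul] at this
  · exact absurd (eq_of_le_of_card_ge (inf_eq_left.1 e) (h.card_eq hC hD).ge) hne

/-- two commuting families: one of them is TI -/
theorem Fam.ti_of_comm (hM : Fam M) (hN : Fam N) (hc : ∀ x, ∀ m ∈ M x, ∀ n ∈ N x, m * n = n * m)
    (hK : ∃ x y : X, x ≠ y ∧ ∃ k ∈ M x, k ∈ M y ∧ k ≠ 1) (hxy : x ≠ y) {n : G} (hx : n ∈ N x)
    (hy : n ∈ N y) : n = 1 := by
  have kc : ∀ (g : G) (p q : X), cj g (M p ⊓ M q) = M (g • p) ⊓ M (g • q) := fun g p q => by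
    rw [cj_inf, hM.cj_eq, hM.cj_eq]
  have ke : ∀ {p q r s : X}, p ≠ q → r ≠ s → M p ⊓ M q ≤ M r → M p ⊓ M q ≤ M s → M p ⊓ M q = M r ⊓ M s :=
    fun {p q r s} h1 h2 k1 k2 => by
      obtain ⟨g, rfl, rfl⟩ := hM.two h1 h2
      exact eq_of_le_of_card_ge (le_inf k1 k2) (by rw [← kc, card_cj])
  have pr : ∀ {K : Subgroup G} {p : X}, cj n K = K → K ≤ M p → K ≤ M (n • p) := fun {K p} e k => by
    rw [← e, ← hM.cj_eq]; exact cj_mono n k
  have cn : ∀ {K : Subgroup G} {p : X}, n ∈ N p → K ≤ M p → cj n K = K := fun {K p} m k =>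
    mem_normalizer_iff_cj.1 (mem_normalizer_of_forall fun a ha => by
      rwa [← hc p a (k ha) n m, mul_inv_cancel_right])
  have out : ∀ z, ¬ M x ⊓ M y ≤ M z → n • z = z := fun z hz => by
    by_contra e
    have xz : x ≠ z := by rintro rfl; exact hz inf_le_left
    have yz : y ≠ z := by rintro rfl; exact hz inf_le_right
    have e1 := ke xz e (pr (cn hx inf_le_left) inf_le_right) inf_le_right
    have e2 := ke yz e (pr (cn hy inf_le_left) inf_le_right) inf_le_right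
    exact hz ((ke xz hxy inf_le_left ((e1.trans e2.symm).trans_le inf_le_left)).symm.trans_le inf_le_right)
  obtain ⟨z, hz⟩ : ∃ z, ¬ M x ⊓ M y ≤ M z := by
    by_contra! hc'
    obtain ⟨p, q, hpq, k, k1, k2, k3⟩ := hK
    obtain ⟨g, rfl, rfl⟩ := hM.two hpq hxy
    exact k3 (by simpa using hM.faith _ fun z => hM.fix (hc' z ⟨hM.conj g k1, hM.conj g k2⟩))
  refine hM.faith n fun p => ?_
  by_cases hp : M x ⊓ M y ≤ M p
  swap
  · exact out p hp
  by_cases px : p = x
  · exact px ▸ hN.fix hx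
  by_cases py : p = y
  · exact py ▸ hN.fix hy
  have pz : p ≠ z := by rintro rfl; exact hz hp
  obtain ⟨g, g1, g2⟩ := hM.two hxy pz
  have hw : M p ⊓ M z ≤ M (g • p) := by
    rw [← hM.cj_eq]
    nth_rewrite 1 [← g1, ← g2, ← kc]
    exact cj_mono g hp
  have uq : ∀ w, M x ⊓ M y ≤ M w → M p ⊓ M z ≤ M w → w = p := fun w k1 k2 => by_contra fun e =>
    hz (((ke hxy e k1 hp).trans (ke pz e k2 inf_le_left).symm).trans_le inf_le_right)
  have w1 : n • g • p = g • p := out _ fun k => px (smul_left_cancel g ((uq _ k hw).trans g1.symm))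
  have e := ke pz (r := z) (s := g • p) (fun e => py (smul_left_cancel g (e.symm.trans g2.symm))) inf_le_right hw
  exact uq _ (pr (cn hx inf_le_left) hp) (pr (by rw [e, kc, out z hz, w1]) inf_le_left)

end CfsgLib.ON2
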