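import Mathlib
import Cfsg.Agent.Lib.ON2.Fam

/-! Blocks (package BLK).  See `plans/ON2.md`. -/

set_option autoImplicit false

namespace CfsgLib.ON2

open Subgroup MulAction CfsgLib.Tech CfsgLib.OTI2

universe u

variable {G : Type u} [Group G] [Finite G] {X : Type u} [Finite X] [MulAction G X]
  {S : X → Subgroup G} {x y z w : X} {C D V W : Subgroup G}

omit [Finite G] [Finite X] in
theorem ncard_mul_le {α β : Type*} [Finite α] [Finite β] {s : Set α} {t : Set β} {m n : ℕ} (r : α → β → Prop)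
    (hm : ∀ a ∈ s, m ≤ {b | b ∈ t ∧ r a b}.ncard) (hn : ∀ b ∈ t, {a | a ∈ s ∧ r a b}.ncard ≤ n) :
    s.ncard * m ≤ t.ncard * n := by
  classical
  have := Fintype.ofFinite α
  have := Fintype.ofFinite β
  rw [Set.ncard_eq_toFinset_card', Set.ncard_eq_toFinset_card']
  refine Finset.card_mul_le_card_mul r (fun a ha => (hm a (by simpa using ha)).trans_eq ?_)
    fun b hb => le_of_eq_of_le ?_ (hn b (by simpa using hb))
  all_goals
    rw [Set.ncard_eq_toFinset_card']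
    congr 1
    ext
    simp

theorem Blk.cj (h : U S) (hV : Blk S V) (g : G) : Blk S (cj g V) := by
  obtain ⟨x, y, C, D, hxy, hC, hD, e⟩ := hV.ex
  exact ⟨fun k => hV.ne (cj_eq_bot_iff.1 k), ⟨g • x, g • y, _, _, fun k => hxy (smul_left_cancel g k),
    h.toFam.fac_cj hC g, h.toFam.fac_cj hD g, by rw [e, cj_inf]⟩, by rw [card_cj]; exact hV.max⟩

theorem smul_mem_Gam (h : U S) (g : G) : g • z ∈ Gam S (cj g V) ↔ z ∈ Gam S V := by
  have k : ∀ (g : G) {z : X} {V : Subgroup G}, z ∈ Gam S V → g • z ∈ Gam S (cj g V) :=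
    fun g _ _ ⟨_, hC, hV⟩ => ⟨_, h.toFam.fac_cj hC g, cj_mono g hV⟩
  exact ⟨fun m => by simpa [cj_inv_cj] using k g⁻¹ m, k g⟩

theorem ncard_Gam_cj (h : U S) (g : G) : (Gam S (cj g V)).ncard = (Gam S V).ncard := by
  rw [← Set.ncard_image_of_injective (Gam S V) (MulAction.injective g)]
  congr 1
  ext z
  exact ⟨fun m => ⟨g⁻¹ • z, (smul_mem_Gam h g).1 (by rwa [smul_inv_smul]), smul_inv_smul g z⟩,
    by rintro ⟨z, m, rfl⟩; exact (smul_mem_Gam h g).2 m⟩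

theorem cj_mem_Ed (h : U S) (g : G) : cj g V ∈ Ed S (g • x) (g • y) ↔ V ∈ Ed S x y := by
  simp only [Ed, Set.mem_setOf_eq, smul_mem_Gam h]
  exact and_congr_left' ⟨fun m => by simpa [cj_inv_cj] using m.cj h g⁻¹, fun m => m.cj h g⟩

theorem same_cj (h : U S) (g : G) : Same S (g • z) (cj g V) (cj g W) ↔ Same S z V W := by
  have k : ∀ (g : G) {z : X} {V W : Subgroup G}, Same S z V W → Same S (g • z) (cj g V) (cj g W) :=
    fun g _ _ _ ⟨_, hC, hV, hW⟩ => ⟨_, h.toFam.fac_cj hC g, cj_mono g hV, cj_mono g hW⟩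
  exact ⟨fun m => by simpa [cj_inv_cj] using k g⁻¹ m, k g⟩

theorem Ed_comm (x y : X) : Ed S x y = Ed S y x := by
  ext V
  exact and_congr_right' and_comm

theorem ncard_Ed (h : U S) {x' y' : X} (hxy : x ≠ y) (hxy' : x' ≠ y') :
    (Ed S x y).ncard = (Ed S x' y').ncard := by
  obtain ⟨g, rfl, rfl⟩ := h.two hxy hxy'
  rw [← Set.ncard_image_of_injective (Ed S x y) (f := cj g) fun _ _ => cj_injective g]
  congr 1
  ext V
  exact ⟨by rintro ⟨V, m, rfl⟩; exact (cj_mem_Ed h g).2 m,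
    fun m => ⟨cj g⁻¹ V, (cj_mem_Ed h g).1 (by rwa [cj_cj_inv]), cj_cj_inv g V⟩⟩

theorem Ed_nonempty (h : U S) (hV : Blk S V) (hxy : x ≠ y) : (Ed S x y).Nonempty := by
  obtain ⟨p, q, C, D, hpq, hC, hD, e⟩ := hV.ex
  obtain ⟨g, rfl, rfl⟩ := h.two hpq hxy
  exact ⟨_, (cj_mem_Ed h g).2 ⟨hV, ⟨C, hC, e.trans_le inf_le_left⟩, D, hD, e.trans_le inf_le_right⟩⟩

theorem Blk.card_eq (hV : Blk S V) (hW : Blk S W) : Nat.card V = Nat.card W := by
  obtain ⟨p, q, C, D, hpq, hC, hD, e⟩ := hV.ex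
  obtain ⟨p', q', C', D', hpq', hC', hD', e'⟩ := hW.ex
  exact le_antisymm (e ▸ hW.max _ _ _ _ hpq hC hD) (e' ▸ hV.max _ _ _ _ hpq' hC' hD')

theorem Blk.eq_inf (hV : Blk S V) (hxy : x ≠ y) (hC : Fac (S x) C) (hD : Fac (S y) D)
    (h1 : V ≤ C) (h2 : V ≤ D) : C ⊓ D = V := by
  exact (eq_of_le_of_card_ge (le_inf h1 h2) (hV.max _ _ _ _ hxy hC hD)).symm

theorem Blk.fac_eq (hV : Blk S V) (hC : Fac (S z) C) (hD : Fac (S z) D) (h1 : V ≤ C) (h2 : V ≤ D) :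
    C = D := by
  by_contra n
  exact hV.ne (eq_bot_iff.2 fun a ha => mem_bot.2 (hC.eq_one hD n (h1 ha) (h2 ha)))

theorem Blk.exists_two (hV : Blk S V) : ∃ x ∈ Gam S V, ∃ y ∈ Gam S V, x ≠ y := by
  obtain ⟨p, q, C, D, hpq, hC, hD, e⟩ := hV.ex
  exact ⟨p, ⟨C, hC, e.trans_le inf_le_left⟩, q, ⟨D, hD, e.trans_le inf_le_right⟩, hpq⟩

theorem fix_of_mem_Gam (h : U S) (hz : z ∈ Gam S V) {v : G} (hv : v ∈ V) : v • z = z := by
  obtain ⟨C, hC, k⟩ := hz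
  exact h.toFam.fac_fix hC (k hv)

theorem smul_mem_Gam_of_normalizer (h : U S) {g : G} (hg : g ∈ normalizer (V : Set G))
    (hz : z ∈ Gam S V) : g • z ∈ Gam S V := by
  rw [← mem_normalizer_iff_cj.1 hg]
  exact (smul_mem_Gam h g).2 hz

/-- a factor at `z` other than the one containing `V` centralises `V` -/
theorem le_normalizer_of_ne (hC : Fac (S z) C) (hD : Fac (S z) D) (hne : C ≠ D) (hV : V ≤ C) :
    D ≤ normalizer (V : Set G) := by
  exact fun d hd => mem_normalizer_of_forall fun a ha => by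
    rwa [← hC.comm hD hne (hV ha) hd, mul_inv_cancel_right]

theorem cover (h : U S) (hz : z ∈ Gam S V) (hz' : z ∈ Gam S W) (hs : ¬ Same S z V W) {v : G}
    (hv : v ∈ V) (hw : w ∈ Gam S W) : v • w ∈ Gam S W := by
  obtain ⟨C, hC, k⟩ := hz
  obtain ⟨D, hD, k'⟩ := hz'
  exact smul_mem_Gam_of_normalizer h (le_normalizer_of_ne hD hC (by
    rintro rfl; exact hs ⟨_, hC, k, k'⟩) k' (k hv)) hw

theorem Blk.count (h : U S) (hV : Blk S V) {lam μ m : ℕ}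
    (hl : ∀ x y : X, x ≠ y → (Ed S x y).ncard = lam)
    (hμ : ∀ z ∈ Gam S V, ∀ w, w ∉ Gam S V → {W | W ∈ Ed S z w ∧ Same S z V W}.ncard ≤ μ)
    (hm : ∀ W, Blk S W → (∃ w ∈ Gam S W, w ∉ Gam S V) → (Dif S V W).ncard ≤ m) :
    (Gam S V).ncard * (lam - μ) ≤ lam * m := by
  obtain ⟨v, hv, w, hw⟩ : ∃ v ∈ V, ∃ w : X, v • w ≠ w := by
    by_contra! hc
    exact hV.ne (eq_bot_iff.2 fun a ha => mem_bot.2 (h.faith a (hc a ha)))
  have nw : w ∉ Gam S V := fun m => hw (fix_of_mem_Gam h m hv)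
  rw [← hl _ _ hw]
  refine ncard_mul_le (fun z W => z ∈ Dif S V W) (fun z hz => ?_) fun W hW =>
    (Set.ncard_le_ncard (fun z hz => hz.2)).trans (hm W hW.1 ⟨w, hW.2.2, nw⟩)
  have zw : z ≠ w := by rintro rfl; exact nw hz
  have := hμ z hz w nw
  have e := Set.ncard_le_ncard (s := Ed S z w) (t := {W | W ∈ Ed S (v • w) w ∧ z ∈ Dif S V W} ∪
    {W | W ∈ Ed S z w ∧ Same S z V W}) fun W hW => (em (Same S z V W)).symm.imp
      (fun n => ⟨⟨hW.1, cover h hz hW.2.1 n hv hW.2.2, hW.2.2⟩, hz, hW.2.1, n⟩) fun n => ⟨hW, n⟩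
  have := e.trans (Set.ncard_union_le _ _)
  rw [hl _ _ zw] at this
  rw [hl _ _ hw]
  omega

theorem U.pr (h : U S) (hb : ∃ V, Blk S V) : Pr S := by
  refine ⟨h, hb, fun V C z hV hC e => ?_⟩
  subst e
  have fa : ∀ {W D : Subgroup G} {p : X}, Blk S W → Fac (S p) D → W ≤ D → W = D := fun hW hD k =>
    eq_of_le_of_card_ge k ((h.card_eq hD hC).trans (hV.card_eq hW)).le
  obtain ⟨x, y, hxy⟩ := h.ntriv
  have l1 := (Set.ncard_pos (Set.toFinite _)).2 (Ed_nonempty h hV hxy)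
  have b1 := (Set.ncard_pos (s := Gam S V) (Set.toFinite _)).2 ⟨z, V, hC, le_rfl⟩
  have := hV.count h (μ := 0) (m := (Gam S V).ncard - 1) (fun p q hpq => ncard_Ed h hpq hxy) (fun p hp w hw => by
    rw [Nat.le_zero, Set.ncard_eq_zero, Set.eq_empty_iff_forall_notMem]
    rintro W ⟨hW, D, hD, k1, k2⟩
    exact hw ((fa hV hD k1).trans (fa hW.1 hD k2).symm ▸ hW.2.2)) (by
    rintro W hW ⟨w, hw, nw⟩
    obtain ⟨D, hD, k⟩ := id hw
    obtain rfl := fa hW hD k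
    obtain ⟨g, -, rfl⟩ := h.exists_cj hC hD
    rw [← ncard_Gam_cj h g, ← Set.ncard_diff_singleton_of_mem hw]
    exact Set.ncard_le_ncard fun p hp => ⟨hp.2.1, by rintro rfl; exact nw hp.1⟩)
  rw [Nat.sub_zero, mul_comm] at this
  have := Nat.le_of_mul_le_mul_left this l1
  omega

theorem U.ti_or_pr (h : U S) : TI S ∨ Pr S := by
  refine or_iff_not_imp_left.2 fun n => h.pr ?_
  obtain ⟨x, y, C, D, hxy, hC, hD, a, a1, a2, a3⟩ : ∃ x y C D, x ≠ y ∧ Fac (S x) C ∧ Fac (S y) D ∧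
      ∃ a ∈ C, a ∈ D ∧ a ≠ 1 := by
    by_contra! hc
    exact n ⟨h, hc⟩
  obtain ⟨V, hV, mx⟩ := Set.exists_max_image {V : Subgroup G | ∃ (x y : X) (C D : Subgroup G), x ≠ y ∧
    Fac (S x) C ∧ Fac (S y) D ∧ V = C ⊓ D} (fun V => Nat.card V) (Set.toFinite _) ⟨_, x, y, C, D, hxy, hC, hD, rfl⟩
  refine ⟨V, ?_, hV, fun p q E F k1 k2 k3 => mx _ ⟨p, q, E, F, k1, k2, k3, rfl⟩⟩
  rintro rfl
  have := mx _ ⟨x, y, C, D, hxy, hC, hD, rfl⟩
  rw [card_bot, card_le_one_iff_eq_bot] at this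
  exact a3 (mem_bot.1 (this.le ⟨a1, a2⟩))

end CfsgLib.ON2
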