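import Mathlib
import Cfsg.Agent.Lib.ON2.Blk

/-! Degrees (package D1).  See `plans/ON2.md`. -/

set_option autoImplicit false

namespace CfsgLib.ON2

open Subgroup MulAction CfsgLib.Tech CfsgLib.OTI2

universe u

variable {G : Type u} [Group G] [Finite G] {X : Type u} [Finite X] [MulAction G X]
  {S : X → Subgroup G} {x y : X} {C D E V W : Subgroup G}

theorem five_le_cj (h : NS C) (hn : ¬ C ≤ normalizer (V : Set G)) : 5 ≤ {W | ∃ c ∈ C, cj c V = W}.ncard := by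
  letI : MulAction G (Subgroup G) := { smul := cj, one_smul := cj_one, mul_smul := cj_mul }
  exact five_le_orbit (X := Subgroup G) h (w := V) fun k => hn fun c hc => mem_normalizer_iff_cj.2 (k hc)

theorem Pr.not_nrm (h : Pr S) (hV : Blk S V) (hD : Fac (S y) D) (hVD : V ≤ D) :
    ¬ D ≤ normalizer (V : Set G) := fun k => (hD.toNS.normal hVD k).elim hV.ne (h.pr V D y hV hD)

theorem Pr.d1 (h : Pr S) (hxy : x ≠ y) (hC : Fac (S x) C) (hD : Fac (S y) D) (hE : Fac (S y) E)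
    (hne : D ≠ E) (hV : Blk S V) (hW : Blk S W) (hVC : V ≤ C) (hVD : V ≤ D) (hWC : W ≤ C)
    (hWE : W ≤ E) :
    (∀ F, Fac (S y) F → F ≠ D → F ≠ E → F ≤ stabilizer G x) ∧
      E ⊓ stabilizer G x = E ⊓ normalizer (W : Set G) ∧ ¬ E ≤ stabilizer G x := by
  have key : ∀ g ∈ normalizer (V : Set G), g ∈ normalizer (W : Set G) → g • x = x := fun g k1 k2 => by
    by_contra n
    have e := hV.eq_inf n (h.toFam.fac_cj hC g) hC (mem_normalizer_iff_cj.1 k1 ▸ cj_mono g hVC) hVC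
    exact hne (hW.fac_eq hD hE ((e ▸ le_inf (mem_normalizer_iff_cj.1 k2 ▸ cj_mono g hWC) hWC).trans hVD) hWE)
  have e : E ⊓ stabilizer G x = E ⊓ normalizer (W : Set G) := by
    refine le_antisymm (fun g hg => ⟨hg.1, ?_⟩) fun g hg =>
      ⟨hg.1, key g (le_normalizer_of_ne hD hE hne hVD hg.1) hg.2⟩
    obtain ⟨⟨a, ha⟩, a1⟩ := ne_bot_iff_exists_ne_one.1 hV.ne
    have := fac_mem_normalizer hC (h.toFam.mem_normalizer hg.2) (hVC ha) (fun e => a1 (Subtype.ext e)) (by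
      rw [← hD.comm hE hne (hVD ha) hg.1, mul_inv_cancel_right]; exact hVC ha)
    show g ∈ normalizer (W : Set G)
    rw [mem_normalizer_iff_cj, ← hW.eq_inf hxy hC hE hWC hWE, cj_inf, mem_normalizer_iff_cj.1 this,
      cj_eq_of_mem hg.1]
  refine ⟨fun F hF k1 k2 g hg => key g (le_normalizer_of_ne hD hF k1.symm hVD hg)
    (le_normalizer_of_ne hE hF k2.symm hWE hg), e, fun k => ?_⟩
  rw [inf_eq_left.2 k, left_eq_inf] at e
  exact h.not_nrm hW hE hWE e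

theorem Pr.deg_le (h : Pr S) (hxy : x ≠ y) (hC : Fac (S x) C) :
    {V | V ∈ Ed S x y ∧ V ≤ C}.ncard ≤ 2 := by
  by_contra! n
  obtain ⟨V1, ⟨⟨b1, -, D1, f1, l1⟩, c1⟩, V2, ⟨⟨b2, -, D2, f2, l2⟩, c2⟩, V3, ⟨⟨b3, -, D3, f3, l3⟩, c3⟩, n12, n13, n23⟩ :=
    (Set.two_lt_ncard (Set.toFinite _)).1 n
  have e1 := b1.eq_inf hxy hC f1 c1 l1
  have e2 := b2.eq_inf hxy hC f2 c2 l2
  have e3 := b3.eq_inf hxy hC f3 c3 l3
  have m12 : D1 ≠ D2 := by rintro rfl; exact n12 (e1.symm.trans e2)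
  have m13 : D1 ≠ D3 := by rintro rfl; exact n13 (e1.symm.trans e3)
  have m23 : D2 ≠ D3 := by rintro rfl; exact n23 (e2.symm.trans e3)
  exact (h.d1 hxy hC f1 f3 m13 b1 b3 c1 l1 c3 l3).2.2
    ((h.d1 hxy hC f1 f2 m12 b1 b2 c1 l1 c2 l2).1 D3 f3 m13.symm m23.symm)

theorem Pr.moves (h : Pr S) (hxy : x ≠ y) (hV : V ∈ Ed S x y) (hD : Fac (S y) D) (hVD : V ≤ D) :
    ¬ D ≤ stabilizer G x := by
  intro k
  have := (five_le_cj hD.toNS (h.not_nrm hV.1 hD hVD)).trans (Set.ncard_le_ncard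
    (t := {V | V ∈ Ed S y x ∧ V ≤ D}) (by
      rintro _ ⟨d, hd, rfl⟩
      refine ⟨?_, cj_eq_of_mem hd ▸ cj_mono d hVD⟩
      have := (cj_mem_Ed h.toU d).2 hV
      rwa [h.toFam.fac_fix hD hd, k hd, Ed_comm] at this))
  have := h.deg_le hxy.symm hD
  omega

theorem Pr.dif_uniq (h : Pr S) {W' : Subgroup G} (hV : Blk S V) (hW : Blk S W) (hW' : Blk S W')
    (hD : Fac (S x) D) (h1 : W ≤ D) (h2 : W' ≤ D) (hx : x ∈ Gam S V) (hxy : x ≠ y) (k1 : y ∈ Dif S V W)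
    (k2 : y ∈ Dif S V W') : W = W' := by
  obtain ⟨C, hC, c⟩ := k1.1
  obtain ⟨E, hE, e⟩ := k1.2.1
  obtain ⟨E', hE', e'⟩ := k2.2.1
  by_cases n : E = E'
  · subst n
    exact (hW.eq_inf hxy hD hE h1 e).symm.trans (hW'.eq_inf hxy hD hE h2 e')
  · exact absurd ((h.d1 hxy hD hE hE' n hW hW' h1 e h2 e').1 C hC (by rintro rfl; exact k1.2.2 ⟨_, hC, c, e⟩)
      (by rintro rfl; exact k2.2.2 ⟨_, hC, c, e'⟩)) (h.moves hxy ⟨hV, hx, k1.1⟩ hC c)

theorem Pr.dif_le (h : Pr S) (hV : Blk S V) (hW : Blk S W) :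
    5 * (Dif S V W).ncard ≤ (Gam S V).ncard + 4 := by
  rcases (Dif S V W).eq_empty_or_nonempty with e | ⟨z, hz⟩
  · simp [e]
  obtain ⟨C, hC, hVC⟩ := hz.1
  obtain ⟨D, hD, hWD⟩ := hz.2.1
  have nV := le_normalizer_of_ne hC hD (by rintro rfl; exact hz.2.2 ⟨_, hC, hVC, hWD⟩) hVC
  have := ncard_mul_le (s := {W' | ∃ d ∈ D, cj d W = W'}) (t := Gam S V \ {z}) (m := (Dif S V W).ncard - 1) (n := 1)
    (fun W' p => p ∈ Dif S V W') (by
      rintro _ ⟨d, hd, rfl⟩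
      rw [← Set.ncard_diff_singleton_of_mem hz, ← Set.ncard_image_of_injective _ (MulAction.injective d)]
      refine Set.ncard_le_ncard ?_
      rintro _ ⟨p, ⟨hp, pz⟩, rfl⟩
      have m := smul_mem_Gam_of_normalizer h.toU (nV hd) hp.1
      refine ⟨⟨m, fun e => pz (smul_left_cancel d (e.trans (h.toFam.fac_fix hD hd).symm))⟩, m,
        (smul_mem_Gam h.toU d).2 hp.2.1, fun e => hp.2.2 ((same_cj h.toU d).1 ?_)⟩
      rwa [mem_normalizer_iff_cj.1 (nV hd)]) (by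
      intro p hp
      rw [Set.ncard_le_one]
      rintro _ ⟨⟨d, hd, rfl⟩, k1⟩ _ ⟨⟨d', hd', rfl⟩, k2⟩
      exact h.dif_uniq hV (hW.cj h.toU d) (hW.cj h.toU d') hD (cj_eq_of_mem hd ▸ cj_mono d hWD)
        (cj_eq_of_mem hd' ▸ cj_mono d' hWD) hz.1 (Ne.symm hp.2) k1 k2)
  rw [Set.ncard_diff_singleton_of_mem hz.1] at this
  have := (Nat.mul_le_mul_right _ (five_le_cj hD.toNS (h.not_nrm hW hD hWD))).trans this
  have := (Set.ncard_pos (s := Gam S V) (Set.toFinite _)).2 ⟨z, hz.1⟩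
  omega

end CfsgLib.ON2
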