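import Mathlib
import Cfsg.Agent.Lib.ON2.D1

/-! There is one block through two points (package CNT).  See `plans/ON2.md`. -/

set_option autoImplicit false

namespace CfsgLib.ON2

open Subgroup MulAction CfsgLib.Tech CfsgLib.OTI2

universe u

variable {G : Type u} [Group G] [Finite G] {X : Type u} [Finite X] [MulAction G X]
  {S : X → Subgroup G}

theorem Pr.orb (h : Pr S) {x y : X} {C D V W : Subgroup G} (hxy : x ≠ y) (hV : V ∈ Ed S x y) (hW : W ∈ Ed S x y)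
    (hC : Fac (S x) C) (hD : Fac (S x) D) (hne : C ≠ D) (c : V ≤ C) (d : W ≤ D) :
    5 ≤ {p | ∃ a ∈ D, a • y = p}.ncard ∧ {p | ∃ a ∈ D, a • y = p} ⊆ Gam S V :=
  ⟨five_le_orbit hD.toNS (h.moves hxy.symm (Ed_comm (S := S) x y ▸ hW) hD d), by
    rintro _ ⟨a, ha, rfl⟩
    exact smul_mem_Gam_of_normalizer h.toU (le_normalizer_of_ne hC hD hne c ha) hV.2.2⟩

theorem Pr.cnt (h : Pr S) {x y : X} {V : Subgroup G} (hxy : x ≠ y) (hV : Blk S V) {μ : ℕ}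
    (hμ : ∀ z C, Fac (S z) C → ∀ w, z ≠ w → {W | W ∈ Ed S z w ∧ W ≤ C}.ncard ≤ μ) :
    5 * ((Gam S V).ncard * ((Ed S x y).ncard - μ)) ≤ (Ed S x y).ncard * ((Gam S V).ncard + 4) := by
  have := hV.count h.toU (μ := μ) (m := ((Gam S V).ncard + 4) / 5) (fun p q hpq => ncard_Ed h.toU hpq hxy)
    (fun z hz w hw => by
      obtain ⟨C, hC, c⟩ := id hz
      refine (Set.ncard_le_ncard ?_).trans (hμ z C hC w (by rintro rfl; exact hw hz))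
      rintro W ⟨hW, D, hD, k1, k2⟩
      exact ⟨hW, hV.fac_eq hD hC k1 c ▸ k2⟩) fun W hW _ => by
      have := h.dif_le hV hW
      omega
  refine (Nat.mul_le_mul_left 5 this).trans ?_
  rw [mul_left_comm]
  exact Nat.mul_le_mul_left _ (by omega)

theorem Pr.conf (h : Pr S) {x y : X} {C₁ C₂ D₁ D₂ V₁ V₂ W : Subgroup G} (hxy : x ≠ y) (e1 : Fac (S x) C₁)
    (e2 : Fac (S x) C₂) (nC : C₁ ≠ C₂) (f1 : Fac (S y) D₁) (f2 : Fac (S y) D₂) (nD : D₁ ≠ D₂) (h1 : Blk S V₁)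
    (h2 : Blk S V₂) (hW : Blk S W) (c1 : V₁ ≤ C₁) (d1 : V₁ ≤ D₁) (c2 : V₂ ≤ C₁) (d2 : V₂ ≤ D₂) (w1 : W ≤ C₂)
    (w2 : W ≤ D₁) : False := by
  have m1 : V₁ ∈ Ed S x y := ⟨h1, ⟨_, e1, c1⟩, _, f1, d1⟩
  have m2 : V₂ ∈ Ed S x y := ⟨h2, ⟨_, e1, c2⟩, _, f2, d2⟩
  have m3 : W ∈ Ed S x y := ⟨hW, ⟨_, e2, w1⟩, _, f1, w2⟩
  have o1 := h.orb hxy m1 m3 e1 e2 nC c1 w1
  have o2 := h.orb hxy.symm (Ed_comm (S := S) x y ▸ m1) (Ed_comm (S := S) x y ▸ m2) f1 f2 nD d1 d2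
  have b5 := o1.1.trans (Set.ncard_le_ncard o1.2)
  have := h.cnt hxy h1 (μ := 2) fun z C hC w hw => h.deg_le hw hC
  have n12 : V₁ ≠ V₂ := by rintro rfl; exact nD (h1.fac_eq f1 f2 d1 d2)
  have nW : ∀ {V W' : Subgroup G}, Blk S V → V ≤ C₁ → W' ≤ C₂ → V ≠ W' := by
    rintro V _ b k1 k2 rfl
    exact nC (b.fac_eq e1 e2 k1 k2)
  rcases Nat.lt_or_ge 3 (Ed S x y).ncard with l | l
  · obtain ⟨l, hl⟩ := Nat.exists_eq_add_of_lt l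
    rw [hl, show 3 + l + 1 - 2 = l + 2 by omega] at this
    nlinarith
  have l3 := (Set.two_lt_ncard (Set.toFinite _)).2 ⟨_, m1, _, m2, _, m3, n12, nW h1 c1 w1, nW h2 c2 w1⟩
  rw [show (Ed S x y).ncard = 3 by omega] at this
  have dj : Disjoint {p | ∃ a ∈ C₂, a • y = p} {p | ∃ a ∈ D₂, a • x = p} := by
    rw [Set.disjoint_left]
    rintro _ ⟨c, hc, rfl⟩ ⟨d, hd, e⟩
    have m4 : cj c⁻¹ W ∈ Ed S x y := (cj_mem_Ed h.toU c).1 (by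
      rw [cj_cj_inv, h.toFam.fac_fix e2 hc, ← e]
      exact ⟨hW, m3.2.1, smul_mem_Gam_of_normalizer h.toU (le_normalizer_of_ne f1 f2 nD w2 hd) m3.2.1⟩)
    have w4 : cj c⁻¹ W ≤ C₂ := cj_eq_of_mem (C₂.inv_mem hc) ▸ cj_mono _ w1
    have e4 : cj c⁻¹ W = W := by_contra fun n => absurd ((Set.three_lt_ncard (Set.toFinite _)).2
      ⟨_, m1, _, m2, _, m3, _, m4, n12, nW h1 c1 w1, nW h1 c1 w4, nW h2 c2 w1, nW h2 c2 w4, Ne.symm n⟩) (by omega)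
    have k : c⁻¹ • y = y := ((h.d1 hxy.symm f1 e1 e2 nC h1 hW d1 c1 w2 w1).2.1.ge
      ⟨C₂.inv_mem hc, mem_normalizer_iff_cj.2 e4⟩).2
    rw [inv_smul_eq_iff] at k
    exact hxy (smul_left_cancel d (e.trans (k.symm.trans (h.toFam.fac_fix f2 hd).symm)))
  have := Set.ncard_le_ncard (Set.union_subset o1.2 o2.2)
  rw [Set.ncard_union_eq dj] at this
  have := o1.1
  have := o2.1
  omega

theorem Pr.one (h : Pr S) : One S := by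
  refine ⟨h, fun x y V W hxy hV hW => by_contra fun n => ?_⟩
  by_cases hA : ∀ (p q : X) (C V₁ V₂ : Subgroup G), p ≠ q → Fac (S p) C → V₁ ∈ Ed S p q → V₂ ∈ Ed S p q →
      V₁ ≤ C → V₂ ≤ C → V₁ = V₂
  · obtain ⟨C, hC, c⟩ := hV.2.1
    obtain ⟨D, hD, d⟩ := hW.2.1
    have b := h.orb hxy hV hW hC hD (by rintro rfl; exact n (hA _ _ _ _ _ hxy hC hV hW c d)) c d
    have b5 := b.1.trans (Set.ncard_le_ncard b.2)
    have l2 := (Set.one_lt_ncard (Set.toFinite _)).2 ⟨V, hV, W, hW, n⟩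
    have := h.cnt hxy hV.1 (μ := 1) fun z C hC w hw => by
      rw [Set.ncard_le_one]
      exact fun V₁ k1 V₂ k2 => hA _ _ _ _ _ hw hC k1.1 k2.1 k1.2 k2.2
    obtain ⟨l, hl⟩ := Nat.exists_eq_add_of_lt l2
    rw [hl, show 1 + l + 1 - 1 = l + 1 by omega] at this
    nlinarith
  push Not at hA
  obtain ⟨p, q, C, V₁, V₂, hpq, hC, h1, h2, c1, c2, n12⟩ := hA
  obtain ⟨D₁, f1, d1⟩ := h1.2.2
  obtain ⟨D₂, f2, d2⟩ := h2.2.2
  have m12 : D₁ ≠ D₂ := by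
    rintro rfl
    exact n12 ((h1.1.eq_inf hpq hC f1 c1 d1).symm.trans (h2.1.eq_inf hpq hC f2 c2 d2))
  obtain ⟨g, g1, g2⟩ := h.two hpq hpq.symm
  have hE : Fac (S q) (cj g C) := g1 ▸ h.toFam.fac_cj hC g
  obtain ⟨C', W', hC', nC, hW', w1, w2⟩ : ∃ C' W', Fac (S p) C' ∧ C ≠ C' ∧ Blk S W' ∧ W' ≤ C' ∧ W' ≤ cj g C := by
    by_cases e : C = cj g D₁
    · exact ⟨_, _, g2 ▸ h.toFam.fac_cj f2 g, fun e' => m12 (cj_injective g (e.symm.trans e')),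
        h2.1.cj h.toU g, cj_mono g d2, cj_mono g c2⟩
    · exact ⟨_, _, g2 ▸ h.toFam.fac_cj f1 g, e, h1.1.cj h.toU g, cj_mono g d1, cj_mono g c1⟩
  by_cases e1 : cj g C = D₁
  · exact h.conf hpq hC hC' nC f1 f2 m12 h1.1 h2.1 hW' c1 d1 c2 d2 w1 (e1 ▸ w2)
  by_cases e2 : cj g C = D₂
  · exact h.conf hpq hC hC' nC f2 f1 m12.symm h2.1 h1.1 hW' c2 d2 c1 d1 w1 (e2 ▸ w2)
  exact h.moves hpq ⟨hW', ⟨_, hC', w1⟩, _, hE, w2⟩ hE w2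
    ((h.d1 hpq hC f1 f2 m12 h1.1 h2.1 c1 d1 c2 d2).1 _ hE e1 e2)

end CfsgLib.ON2
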