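import Mathlib
import Cfsg.Agent.Lib.ON2.Defs
import Cfsg.Agent.Lib.Holt.Main
import Cfsg.Agent.S0700
import Cfsg.Agent.Lib.Core.MinNormal

/-! A 2-central involution with a unique fixed point (package HOLT).  See `plans/ON2.md`. -/

set_option autoImplicit false
set_option linter.unusedSectionVars false

namespace CfsgLib.ON2

open Subgroup MulAction CfsgLib.Tech CfsgLib.OTI2

universe u

/-- the stabiliser of a point in an alternating group of degree at least six -/
theorem alt_stab {N Y : Type*} [Group N] [Fintype Y] [DecidableEq Y] (h7 : 7 ≤ Nat.card Y) {a : Y}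
    (f : N →* Equiv.Perm Y) (hi : Function.Injective f)
    (hr : ∀ r, r ∈ f.range ↔ r ∈ alternatingGroup Y ∧ r a = a) :
    IsSimpleGroup N ∧ ¬ IsMulCommutative N := by
  let s : Finset Y := {a}ᶜ
  have hs : 6 ≤ Nat.card s := by
    rw [Nat.card_eq_fintype_card, Fintype.card_coe, Finset.card_compl, Finset.card_singleton,
      ← Nat.card_eq_fintype_card]
    omega
  let ψ : alternatingGroup s →* Equiv.Perm Y :=
    (alternatingGroup Y).subtype.comp (alternatingGroup.ofSubtype s)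
  have hψ : Function.Injective ψ :=
    (alternatingGroup Y).subtype_injective.comp alternatingGroup.ofSubtype_injective
  have e : f.range = ψ.range := by
    ext r
    rw [hr]
    constructor
    · rintro ⟨h1, h2⟩
      obtain ⟨k, hk⟩ := (alternatingGroup.mem_range_ofSubtype_iff s ⟨r, h1⟩).2 fun b hb => by
        rw [Finset.mem_compl, Finset.mem_singleton]
        rintro rfl
        exact Equiv.Perm.mem_support.1 hb h2
      exact ⟨k, congrArg Subtype.val hk⟩
    · rintro ⟨k, rfl⟩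
      refine ⟨(alternatingGroup.ofSubtype s k).2, ?_⟩
      have h1 := (alternatingGroup.mem_range_ofSubtype_iff s _).1 ⟨k, rfl⟩
      by_contra hne
      have h2 := h1 (Equiv.Perm.mem_support.2 hne)
      rw [Finset.mem_compl, Finset.mem_singleton] at h2
      exact h2 rfl
  let ε : N ≃* alternatingGroup s :=
    ((MonoidHom.ofInjective hi).trans (MulEquiv.subgroupCongr e)).trans (MonoidHom.ofInjective hψ).symm
  have := alternatingGroup.isSimpleGroup (α := s) (by omega)
  refine ⟨ε.isSimpleGroup, fun hc => ?_⟩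
  have h3 : IsMulCommutative (alternatingGroup s) := ⟨⟨fun p q => by
    obtain ⟨p, rfl⟩ := ε.surjective p
    obtain ⟨q, rfl⟩ := ε.surjective q
    rw [← map_mul, ← map_mul, hc.1.1]⟩⟩
  have := alternatingGroup.isMulCommutative_iff_card_le_three.1 h3
  omega

variable {G : Type u} [Group G] [Finite G] {X : Type u} [Finite X] [MulAction G X]

/-- an abelian transitive normal subgroup -/
theorem loc_of_comm [FaithfulSMul G X] {L : Subgroup G} [hL : L.Normal] (hc : IsMulCommutative L)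
    {z : G} {x : X} (tr : ∀ y : X, ∃ l ∈ L, l • x = y) (h2 : orderOf z = 2) (hx : z • x = x)
    (hu : ∀ y, z • y = y → y = x) : Loc G x := by
  have z2 : z * z = 1 := by rw [← sq, ← h2, pow_orderOf_eq_one]
  have zi : z⁻¹ = z := inv_eq_of_mul_eq_one_right z2
  have cm : ∀ a ∈ L, ∀ b ∈ L, a * b = b * a := fun a ha b hb =>
    congrArg Subtype.val (hc.1.1 ⟨a, ha⟩ ⟨b, hb⟩)
  have one : ∀ c : G, (∀ l ∈ L, c * l = l * c) → c • x = x → c = 1 := fun c h1 h3 =>
    Perm.eq_one_of_commute_of_fix (fun b => by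
      obtain ⟨l, hl, e⟩ := tr b
      exact ⟨l, h1 l hl, e⟩) h3
  have inv : ∀ l ∈ L, z * l * z⁻¹ = l⁻¹ := fun l hl => by
    have h1 : z * l * z⁻¹ ∈ L := hL.conj_mem l hl z
    have h3 : z * (l * (z * l * z⁻¹)) = l * (z * l * z⁻¹) * z := by
      rw [cm l hl _ h1, zi]
      calc z * (z * l * z * l) = (z * z) * l * z * l := by group
        _ = l * z * l * (z * z) := by rw [z2]; group
        _ = l * (z * l * z⁻¹) * z := by rw [zi]; group
        _ = z * l * z * l * z := by rw [cm l hl _ h1, zi]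
    have h4 : (l * (z * l * z⁻¹)) • x = x := hu _ (by rw [← mul_smul, h3, mul_smul, hx])
    exact eq_inv_of_mul_eq_one_right (one _ (fun m hm => cm _ (mul_mem hl h1) m hm) h4)
  refine ⟨2, zpowers z, Nat.prime_two, isPGroup_zpowers_of_pow (k := 1) (by rw [pow_one, sq, z2]),
    ?_, zpowers_le.2 hx, fun g hg => ?_⟩
  · rw [Ne, zpowers_eq_bot]
    rintro rfl
    simp at h2
  · have hg' : g⁻¹ • x = x := inv_mem hg
    have h1 : z * (g * z * g⁻¹) = 1 := by
      refine one _ (fun l hl => ?_) (by rw [mul_smul, mul_smul, mul_smul, hg', hx, hg, hx])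
      have h3 := inv _ (hL.conj_mem l hl g⁻¹)
      have h4 : g * z * g⁻¹ * l * (g * z * g⁻¹)⁻¹ = l⁻¹ := by
        calc g * z * g⁻¹ * l * (g * z * g⁻¹)⁻¹ = g * (z * (g⁻¹ * l * g⁻¹⁻¹) * z⁻¹) * g⁻¹ := by group
          _ = l⁻¹ := by rw [h3]; group
      have h5 := inv _ (inv_mem hl)
      calc z * (g * z * g⁻¹) * l
          = z * (g * z * g⁻¹ * l * (g * z * g⁻¹)⁻¹) * z⁻¹ * (z * (g * z * g⁻¹)) := by group
        _ = l * (z * (g * z * g⁻¹)) := by rw [h4, h5, inv_inv]
    have h3 : g * z * g⁻¹ = z := by rw [eq_inv_of_mul_eq_one_right h1, zi]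
    rw [mem_normalizer_iff_cj, cj_zpowers, h3]

/-- a Bender group -/
theorem loc_of_ben {L : Subgroup G} [hL : L.Normal] (hs : IsSimpleGroup L) {x : X}
    (hm : ∃ l ∈ L, l • x ≠ x) (hb : Holt.Ben (Holt.H0.RR L x)) : Loc G x := by
  have hi := Holt.H0.fL_inj hs hm
  obtain ⟨T, hT⟩ := hb.stab ⟨x, mem_orbit_self x⟩
  let ε := Holt.H0.eL hi
  let T1 : Sylow 2 L := T.comapOfInjective ε.toMonoidHom ε.injective (by
    rw [MonoidHom.range_eq_top.2 ε.surjective]; exact le_top)
  let T0 : Subgroup G := (T1 : Subgroup L).map L.subtype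
  have s0 : IsSylowIn 2 T0 L := IsSylowIn.of_sylow_subgroup T1
  have m0 : ∀ l : L, (l : G) ∈ T0 ↔ ε l ∈ T := fun l =>
    ⟨fun ⟨k, hk, e⟩ => (Subtype.ext e : k = l) ▸ hk, fun h => ⟨l, h, rfl⟩⟩
  have key : ∀ l ∈ L, l • x = x ↔ l ∈ normalizer (T0 : Set G) := fun l hl => by
    have h1 := hT (ε ⟨l, hl⟩)
    rw [Subtype.ext_iff] at h1
    refine h1.trans ⟨fun h => mem_normalizer_of_forall fun t ht => ?_,
      fun h => mem_normalizer_of_forall fun t ht => ?_⟩
    · have h2 := conj_mem_of_mem_normalizer h ((m0 ⟨t, s0.le ht⟩).1 ht)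
      rw [← map_mul, ← map_inv, ← map_mul] at h2
      exact (m0 _).2 h2
    · obtain ⟨k, rfl⟩ := ε.surjective t
      rw [← map_mul, ← map_inv, ← map_mul]
      exact (m0 _).1 (conj_mem_of_mem_normalizer h ((m0 k).2 ht))
  have fx : ∀ t ∈ T0, t • x = x := fun t ht => (key t (s0.le ht)).2 (le_normalizer ht)
  refine ⟨2, T0, Nat.prime_two, s0.pgroup, fun e => ?_, fx, fun g hg => ?_⟩
  · obtain ⟨l, hl, h⟩ := hm
    refine h ((key l hl).2 (mem_normalizer_of_forall fun t ht => ?_))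
    rw [e, mem_bot] at ht ⊢
    rw [ht, mul_one, mul_inv_cancel]
  · have hg' : g⁻¹ • x = x := inv_mem hg
    have h1 : cj g T0 ≤ L := cj_le_iff.2 fun t ht => hL.conj_mem t (s0.le ht) g
    refine mem_normalizer_of_cj_le (s0.le_of_normalizes (isPGroup_cj g s0.pgroup) h1
      (cj_le_iff.2 fun t ht => (key _ (hL.conj_mem t (s0.le ht) g)).1 ?_))
    rw [mul_smul, mul_smul, hg', fx t ht, hg]

/-- an alternating group -/
theorem asi_of_alt [FaithfulSMul G X] {L : Subgroup G} [hL : L.Normal] (hs : IsSimpleGroup L) {x : X}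
    (tr : ∀ y : X, ∃ l ∈ L, l • x = y) (hm : ∃ l ∈ L, l • x ≠ x)
    (ha : Holt.Alt7 (Holt.H0.RR L x)) : ASi G x := by
  classical
  have hi := Holt.H0.fL_inj hs hm
  let _ : Fintype (orbit L x) := Fintype.ofFinite _
  have hA : Holt.H0.RR L x = alternatingGroup (orbit L x) := ha.alt
  let a : orbit L x := ⟨x, mem_orbit_self x⟩
  let N : Subgroup G := L ⊓ stabilizer G x
  let f : N →* Equiv.Perm (orbit L x) := (Holt.H0.fL L x).comp (inclusion inf_le_left)
  have hr : ∀ r, r ∈ f.range ↔ r ∈ alternatingGroup (orbit L x) ∧ r a = a := fun r => by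
    rw [← hA, Holt.H0.mem_RR]
    constructor
    · rintro ⟨n, rfl⟩
      exact ⟨⟨_, rfl⟩, Subtype.ext n.2.2⟩
    · rintro ⟨⟨l, rfl⟩, h⟩
      exact ⟨⟨l, l.2, congrArg Subtype.val h⟩, rfl⟩
  obtain ⟨h1, h2⟩ := alt_stab ha.seven f (hi.comp (inclusion_injective _)) hr
  refine ⟨N, ⟨h1, h2⟩, inf_le_right, fun g hg => mem_normalizer_of_forall fun n hn =>
    ⟨hL.conj_mem n hn.1 g, (stabilizer G x).mul_mem (mul_mem hg hn.2) (inv_mem hg)⟩,
    fun g hg hc => ?_⟩
  refine eq_of_smul_eq_smul (α := X) fun y => ?_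
  rw [one_smul]
  by_contra hy
  have mem : ∀ p : X, p ∈ orbit L x := fun p => Holt.H0.mem_orb.2 (tr p)
  let y1 : orbit L x := ⟨y, mem y⟩
  let y2 : orbit L x := ⟨g • y, mem _⟩
  have hyx : y1 ≠ a := fun e => hy (by rw [show y = x from congrArg Subtype.val e, hg])
  have hy12 : y2 ≠ y1 := fun e => hy (congrArg Subtype.val e)
  have hc2 : 1 < (({a, y1, y2} : Finset (orbit L x))ᶜ).card := by
    have h3 : ({a, y1, y2} : Finset (orbit L x)).card ≤ 3 := Finset.card_le_three
    have h4 := ha.seven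
    rw [Nat.card_eq_fintype_card] at h4
    rw [Finset.card_compl]
    omega
  obtain ⟨p, hp, q, hq, hpq⟩ := Finset.one_lt_card.1 hc2
  simp only [Finset.mem_compl, Finset.mem_insert, Finset.mem_singleton, not_or] at hp hq
  obtain ⟨n, hn⟩ := (hr (Equiv.swap y1 p * Equiv.swap y1 q)).2
    ⟨(Equiv.Perm.isThreeCycle_swap_mul_swap_same (Ne.symm hp.2.1) (Ne.symm hq.2.1)
      hpq).mem_alternatingGroup, by
      rw [Equiv.Perm.mul_apply, Equiv.swap_apply_of_ne_of_ne hyx.symm (Ne.symm hq.1),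
        Equiv.swap_apply_of_ne_of_ne hyx.symm (Ne.symm hp.1)]⟩
  have e1 : (n : G) • y = q := by
    have := congrArg (fun r : Equiv.Perm (orbit L x) => (r y1 : X)) hn
    rw [Equiv.Perm.mul_apply, Equiv.swap_apply_left,
      Equiv.swap_apply_of_ne_of_ne hq.2.1 hpq.symm] at this
    exact this
  have e2 : (n : G) • g • y = g • y := by
    have := congrArg (fun r : Equiv.Perm (orbit L x) => (r y2 : X)) hn
    rw [Equiv.Perm.mul_apply, Equiv.swap_apply_of_ne_of_ne hy12 (Ne.symm hq.2.2),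
      Equiv.swap_apply_of_ne_of_ne hy12 (Ne.symm hp.2.2)] at this
    exact this
  rw [← mul_smul, ← hc n n.2, mul_smul, e1, smul_left_cancel_iff] at e2
  exact hq.2.1 (Subtype.ext e2)

theorem T2.holt (h : T2 G X) {P : Subgroup G} {z : G} {x : X} (hP : IsSylowIn 2 P ⊤) (hz : z ∈ P)
    (h2 : orderOf z = 2) (hc : ∀ s ∈ P, z * s = s * z) (hx : z • x = x)
    (hu : ∀ y, z • y = y → y = x) : Loc G x ∨ ASi G x := by
  have : FaithfulSMul G X := ⟨fun {a b} e => by
    have h1 := h.faith (b⁻¹ * a) fun y => by rw [mul_smul, e, inv_smul_smul]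
    exact (inv_mul_eq_one.1 h1).symm⟩
  have h2t : IsMultiplyPretransitive G X 2 := is_two_pretransitive_iff.2 h.two
  have z1 : z ≠ 1 := by
    rintro rfl
    simp at h2
  have hne : (⊤ : Subgroup G) ≠ ⊥ := fun e => z1 (by rw [← mem_bot, ← e]; exact mem_top z)
  obtain ⟨L, hL, hb, -, hmin⟩ := Core.exists_minimal_normal_le hne
  have tr : ∀ y : X, ∃ l ∈ L, l • x = y := Perm.normal_transitive_of_two_transitive h2t L hb x
  by_cases hcm : IsMulCommutative L
  · exact Or.inl (loc_of_comm hcm tr h2 hx hu)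
  have hs : IsSimpleGroup L := ((Perm.burnside_minimal_normal h2t L hb hmin).resolve_left
    fun e => hcm e.1).1
  have hm : ∃ l ∈ L, l • x ≠ x := by
    by_contra hn
    push Not at hn
    refine z1 (h.faith z fun y => ?_)
    obtain ⟨l, hl, rfl⟩ := tr y
    rw [hn l hl, hx]
  have hT : IsSylowIn 2 (P ⊓ L) L := by
    have h1 := hP.inf_of_le_normalizer (N := L) (by rw [normalizer_eq_top])
    rwa [top_inf_eq] at h1
  rcases Holt.H0.concl (Holt.coreLt (Nat.card G + 1)) (by omega) hs hcm hm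
    (by rw [← sq, ← h2, pow_orderOf_eq_one]) (by rw [normalizer_eq_top]; exact mem_top z) hx hu hT
    (fun t ht => hc t ht.1) with h1 | h1
  · exact Or.inl (loc_of_ben hs hm h1.1)
  · exact Or.inr (asi_of_alt hs tr hm h1)

end CfsgLib.ON2
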