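import Mathlib
import Cfsg.Agent.Lib.ON2.Fam

/-! TI factors: basic facts (package TIF1).  See `plans/ON2.md`. -/

set_option autoImplicit false

namespace CfsgLib.ON2

open Subgroup MulAction CfsgLib.Tech CfsgLib.OTI2

universe u

variable {G : Type u} [Group G] [Finite G] {X : Type u} [Finite X] [MulAction G X]
  {S : X → Subgroup G} {x y : X} {C D : Subgroup G}

theorem TI.fix_of_conj (h : TI S) (hC : Fac (S x) C) {a g : G} (ha : a ∈ C) (h1 : a ≠ 1)
    (hg : g * a * g⁻¹ ∈ C) : g • x = x ∧ g ∈ normalizer (C : Set G) := by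
  have hx : g • x = x := by
    by_contra e
    exact h1 (conj_eq_one_iff.1 (h.ti _ _ _ _ e (h.toFam.fac_cj hC g) hC _ (conj_mem_cj.2 ha) hg))
  exact ⟨hx, fac_mem_normalizer hC (h.toFam.mem_normalizer hx) ha h1 hg⟩

theorem TI.fix_of_comm (h : TI S) (hC : Fac (S x) C) {a g : G} (ha : a ∈ C) (h1 : a ≠ 1)
    (hg : g * a = a * g) : g • x = x := by
  exact (h.fix_of_conj hC ha h1 (by rwa [hg, mul_inv_cancel_right])).1

theorem TI.normalizer_le (h : TI S) (hC : Fac (S x) C) :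
    normalizer (C : Set G) ≤ stabilizer G x := by
  intro g hg
  obtain ⟨t, ht, h2⟩ := exists_invol hC.toNS
  exact (h.fix_of_conj hC ht (by rintro rfl; simp at h2) (conj_mem_of_mem_normalizer hg ht)).1

theorem TI.tp (h : TI S) (hxy : x ≠ y) (hC : Fac (S x) C) (hD : Fac (S y) D) : TP C D := by
  obtain ⟨t, ht, h2⟩ := exists_invol hC.toNS
  obtain ⟨g, -, hg⟩ := h.toU.exists_cj hC hD
  exact ⟨fun e => absurd (h.ti _ _ _ _ hxy hC hD t ht (e ▸ ht)) (by rintro rfl; simp at h2), ⟨g, hg⟩,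
    fun g a ha h1 e => (h.fix_of_conj hC ha h1 e).2⟩

end CfsgLib.ON2
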