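import Mathlib
import Cfsg.Agent.Lib.ON2.Sem

/-! Weights (package WT).  See `plans/ON2.md`. -/

set_option autoImplicit false
set_option linter.unusedSectionVars false

namespace CfsgLib.ON2

open Subgroup MulAction CfsgLib.Tech CfsgLib.OTI2

universe u

variable {G : Type u} [Group G] [Finite G] {T C : Subgroup G} {u e f g : G}

theorem wt_both (hu : u * u = 1) (hC : Fac T C) (hf : f ∈ T)
    (h1 : ∀ a ∈ C, e * a * e⁻¹ = u * a * u⁻¹) (h2 : ∀ a ∈ C, f * a * f⁻¹ = u * a * u⁻¹) :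
    ∀ a ∈ C, e * f * a = a * (e * f) := fun a ha => by
  have := h1 _ ((mem_normalizer_iff.1 (hC.nrm hf) a).1 ha)
  nth_rewrite 2 [h2 a ha] at this
  rw [show u * (u * a * u⁻¹) * u⁻¹ = u * u * a * (u * u)⁻¹ by group, hu, one_mul, inv_one,
    mul_one] at this
  calc _ = e * (f * a * f⁻¹) * e⁻¹ * (e * f) := by group
    _ = _ := by rw [this]

theorem wt_not_mem (hC : Fac T C) : C ∉ supp T e ↔ ∀ a ∈ C, e * a = a * e := by
  simp only [supp, Set.mem_ofPred_eq, hC, true_and]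
  push Not
  rfl

theorem exists_EE (hu : u * u = 1) : ∃ E : Subgroup G, ∀ e, e ∈ E ↔ e ∈ EE T u := by
  refine ⟨⟨⟨⟨EE T u, ?_⟩, one_mem _, fun C _ => .inl fun a _ => by rw [one_mul, mul_one]⟩, ?_⟩,
    fun _ => Iff.rfl⟩
  · rintro e f ⟨he, h1⟩ ⟨hf, h2⟩
    refine ⟨mul_mem he hf, fun C hC => ?_⟩
    rcases h1 C hC with h1 | h1 <;> rcases h2 C hC with h2 | h2
    · exact .inl fun a ha => by rw [mul_assoc, h2 a ha, ← mul_assoc, h1 a ha, mul_assoc]
    · refine .inr fun a ha => ?_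
      calc _ = e * (f * a * f⁻¹) * e⁻¹ := by group
        _ = _ := by rw [h1 _ ((mem_normalizer_iff.1 (hC.nrm hf) a).1 ha), mul_inv_cancel_right, h2 a ha]
    · refine .inr fun a ha => ?_
      calc _ = e * (f * a * f⁻¹) * e⁻¹ := by group
        _ = _ := by rw [h2 a ha, mul_inv_cancel_right, h1 a ha]
    · exact .inl (wt_both hu hC hf h1 h2)
  · rintro e ⟨he, h1⟩
    refine ⟨inv_mem he, fun C hC => (h1 C hC).imp (fun h a ha => ?_) fun h a ha => ?_⟩
    · exact (Commute.inv_left (h a ha)).eq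
    · have := h _ ((mem_normalizer_iff''.1 (hC.nrm he) a).1 ha)
      rw [show e * (e⁻¹ * a * e) * e⁻¹ = a by group] at this
      rw [inv_inv]
      nth_rewrite 2 [this]
      rw [show u * (u * (e⁻¹ * a * e) * u⁻¹) * u⁻¹ = u * u * (e⁻¹ * a * e) * (u * u)⁻¹ by group, hu]
      group

theorem self_mem_EE (hu : u ∈ T) : u ∈ EE T u := ⟨hu, fun _ _ => .inr fun _ _ => rfl⟩

theorem sq_of_mem_EE (hT : Semi T) (hu : u * u = 1) (he : e ∈ EE T u) : e * e = 1 :=
  eq_one_of_fac hT (mul_mem he.1 he.1) fun C hC => (he.2 C hC).elim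
    (fun h a ha => (Commute.mul_left (h a ha) (h a ha)).eq) fun h => wt_both hu hC he.1 h h

theorem comm_of_mem_EE (hT : Semi T) (hu : u * u = 1) (he : e ∈ EE T u) (hf : f ∈ EE T u) :
    e * f = f * e := by
  obtain ⟨E, hE⟩ := exists_EE (T := T) hu
  have := sq_of_mem_EE hT hu ((hE _).1 (mul_mem ((hE _).2 he) ((hE _).2 hf)))
  rw [eq_inv_of_mul_eq_one_left this, mul_inv_rev, inv_eq_of_mul_eq_one_right (sq_of_mem_EE hT hu he),
    inv_eq_of_mul_eq_one_right (sq_of_mem_EE hT hu hf)]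

theorem conj_mem_EE (hg : g ∈ normalizer (T : Set G)) (hc : g * u = u * g) (he : e ∈ EE T u) :
    g * e * g⁻¹ ∈ EE T u := by
  refine ⟨(mem_normalizer_iff.1 hg e).1 he.1, fun C hC => ?_⟩
  have m : ∀ a ∈ C, g⁻¹ * a * g ∈ cj g⁻¹ C := fun a ha => mem_cj.2 (by simpa [mul_assoc] using ha)
  refine (he.2 _ (fac_cj hC (inv_mem hg))).imp (fun h a ha => ?_) fun h a ha => ?_
  · calc _ = g * (e * (g⁻¹ * a * g)) * g⁻¹ := by group
      _ = _ := by rw [h _ (m a ha)]; group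
  · calc _ = g * (e * (g⁻¹ * a * g) * e⁻¹) * g⁻¹ := by group
      _ = g * u * g⁻¹ * a * (g * u * g⁻¹)⁻¹ := by rw [h _ (m a ha)]; group
      _ = _ := by rw [hc, mul_inv_cancel_right]

theorem exists_prj_EE (hT : Semi T) (hu : u ∈ T) (h2 : u * u = 1) (hC : C ∈ supp T u) :
    ∃ c ∈ C, c ∈ EE T u ∧ orderOf c = 2 ∧ ∀ a ∈ C, c * a * c⁻¹ = u * a * u⁻¹ := by
  obtain ⟨hC, a, ha, hn⟩ := hC
  obtain ⟨c, hc, e⟩ := exists_prj hT hC hu
  have hE : c ∈ EE T u := ⟨hC.le hc, fun D hD => by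
    by_cases h : C = D
    · exact .inr fun a ha => (e a (h ▸ ha)).symm
    · exact .inl fun a ha => hC.comm hD h hc ha⟩
  refine ⟨c, hc, hE, orderOf_eq_prime (by rw [sq, sq_of_mem_EE hT h2 hE]) ?_, fun a ha => (e a ha).symm⟩
  rintro rfl
  exact hn (by simpa [mul_inv_eq_iff_eq_mul] using e a ha)

theorem supp_subset (he : e ∈ EE T u) : supp T e ⊆ supp T u := by
  rintro C ⟨hC, a, ha, hn⟩
  refine ⟨hC, a, ha, fun h => hn ?_⟩
  refine (he.2 C hC).elim (fun k => k a ha) fun k => ?_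
  rw [← mul_inv_eq_iff_eq_mul, k a ha, h, mul_inv_cancel_right]

set_option linter.unusedVariables false in
theorem supp_mul (he : e ∈ T) (hf : f ∈ T) : supp T (e * f) ⊆ supp T e ∪ supp T f := by
  rintro C ⟨hC, a, ha, hn⟩
  by_contra h
  rw [Set.mem_union, not_or, wt_not_mem hC, wt_not_mem hC] at h
  exact hn (Commute.mul_left (h.1 a ha) (h.2 a ha))

theorem supp_mul_EE (hu : u * u = 1) (he : e ∈ EE T u) (hf : f ∈ EE T u) :
    supp T (e * f) = (supp T e \ supp T f) ∪ (supp T f \ supp T e) := by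
  ext C
  refine ⟨fun h => ?_, ?_⟩
  · have hC := h.1
    by_cases h1 : C ∈ supp T e <;> by_cases h2 : C ∈ supp T f
    · exact absurd h ((wt_not_mem hC).2 (wt_both hu hC hf.1
        ((he.2 C hC).resolve_left fun k => (wt_not_mem hC).2 k h1)
        ((hf.2 C hC).resolve_left fun k => (wt_not_mem hC).2 k h2)))
    · exact .inl ⟨h1, h2⟩
    · exact .inr ⟨h2, h1⟩
    · exact ((supp_mul he.1 hf.1 h).elim h1 h2).elim
  · rintro (⟨⟨hC, a, ha, hn⟩, h2⟩ | ⟨⟨hC, a, ha, hn⟩, h2⟩) <;> refine ⟨hC, a, ha, fun h => hn ?_⟩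
    · simpa using (Commute.mul_left (show Commute _ a from h)
        (Commute.inv_left ((wt_not_mem hC).1 h2 a ha))).eq
    · simpa using (Commute.mul_left (Commute.inv_left ((wt_not_mem hC).1 h2 a ha))
        (show Commute _ a from h)).eq

theorem supp_of_mem (hC : Fac T C) (he : e ∈ C) (h1 : e ≠ 1) : supp T e = {C} := by
  ext D
  refine ⟨fun ⟨hD, a, ha, hn⟩ => ?_, ?_⟩
  · by_contra h
    exact hn (hC.comm hD (fun k => h k.symm) he ha)
  · rintro rfl
    by_contra h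
    exact h1 (hC.toNS.eq_one_of_central he ((wt_not_mem hC).1 h))

theorem mem_of_supp (hT : Semi T) (hC : Fac T C) (he : e ∈ T) (h : supp T e ⊆ {C}) : e ∈ C := by
  obtain ⟨c, hc, k⟩ := exists_prj hT hC he
  have := eq_one_of_fac hT (mul_mem (inv_mem (hC.le hc)) he) fun D hD a ha => by
    by_cases e1 : C = D
    · calc _ = c⁻¹ * (e * a * e⁻¹) * e := by group
        _ = _ := by rw [k a (e1 ▸ ha)]; group
    · exact (Commute.mul_left (Commute.inv_left (hC.comm hD e1 hc ha))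
        ((wt_not_mem hD).1 (fun m => e1 (h m).symm) a ha)).eq
  rwa [← inv_mul_eq_one.1 this]

theorem eq_one_of_supp (hT : Semi T) (he : e ∈ T) (h : supp T e = ∅) : e = 1 :=
  eq_one_of_fac hT he fun _ hC => (wt_not_mem hC).1 (h ▸ Set.notMem_empty _)

theorem wt_cj_mem (g : G) (h : C ∈ supp T e) : cj g C ∈ supp (cj g T) (g * e * g⁻¹) := by
  obtain ⟨hC, a, ha, hn⟩ := h
  exact ⟨hC.cj g, g * a * g⁻¹, conj_mem_cj.2 ha, fun k => hn (by
    rw [conj_mul, conj_mul] at k; simpa using k)⟩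

theorem wt_cj (g : G) (T : Subgroup G) (e : G) : wt (cj g T) (g * e * g⁻¹) = wt T e := by
  rw [wt, wt, ← Set.ncard_image_of_injective (supp T e) (f := cj g) fun _ _ => cj_injective g]
  congr 1
  ext C
  refine ⟨fun h => ⟨cj g⁻¹ C, ?_, cj_cj_inv g C⟩, ?_⟩
  · have := wt_cj_mem g⁻¹ h
    rwa [cj_inv_cj, show g⁻¹ * (g * e * g⁻¹) * g⁻¹⁻¹ = e by group] at this
  · rintro ⟨D, hD, rfl⟩
    exact wt_cj_mem g hD

theorem wt_lt (hT : Semi T) (hu : u ∈ T) (h2 : u * u = 1) (he : e ∈ EE T u) (hne : e ≠ u) :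
    wt T e < wt T u := by
  refine Set.ncard_lt_ncard ((supp_subset he).ssubset_of_ne fun h => hne ?_) (Set.toFinite _)
  have := eq_one_of_supp hT (mul_mem he.1 hu) (by rw [supp_mul_EE h2 he (self_mem_EE hu), h]; simp)
  rw [eq_inv_of_mul_eq_one_left this, inv_eq_of_mul_eq_one_right h2]

end CfsgLib.ON2
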