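import Mathlib
import Cfsg.Agent.Lib.ON2.TI0
import Cfsg.Agent.Lib.ON2.Wt
import Cfsg.Agent.Lib.Holt.BasA

/-! Involutions of least weight (package NF1).  See `plans/ON2.md`. -/

set_option autoImplicit false
set_option linter.unusedSectionVars false

namespace CfsgLib.ON2

open Subgroup MulAction CfsgLib.Tech CfsgLib.OTI2

universe u

variable {G : Type u} [Group G] [Finite G] {X : Type u} [Finite X] [MulAction G X]
  {S : X → Subgroup G} {x y p q : X} {u e : G}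

theorem nf_sq (h : orderOf u = 2) : u * u = 1 := by rw [← sq, ← h, pow_orderOf_eq_one]

theorem nf_ne (h : orderOf u = 2) : u ≠ 1 := by
  rintro rfl
  simp at h

theorem nf_two (h : orderOf u = 2) : IsPGroup 2 (zpowers u) :=
  isPGroup_zpowers_of_pow (k := 1) (by rw [pow_one, sq, nf_sq h])

/-- an invariant set on which an involution has a unique fixed point is odd -/
theorem nf_odd {Z : Set X} (h2 : orderOf u = 2) (hZ : ∀ g ∈ zpowers u, ∀ z ∈ Z, g • z ∈ Z) (hp : p ∈ Z)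
    (hf : u • p = p) (hu : ∀ z ∈ Z, u • z = z → z = p) : Odd Z.ncard := by
  have h1 := Holt.ncard_modEq (nf_two h2) (Set.toFinite Z) hZ
  have h3 : {s | s ∈ Z ∧ ∀ g ∈ zpowers u, g • s = s} = {p} := by
    ext s
    refine ⟨fun hs => hu s hs.1 (hs.2 u (mem_zpowers u)), ?_⟩
    rintro rfl
    exact ⟨hp, fun g hg => (zpowers_le.2 hf : zpowers u ≤ stabilizer G s) hg⟩
  rw [h3, Set.ncard_singleton] at h1
  exact Nat.odd_iff.2 h1

theorem NF.exists_sylow (h : NF S) (x : X) : ∃ P, IsSylowIn 2 P ⊤ ∧ P ≤ stabilizer G x := by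
  obtain ⟨C, hC⟩ := h.toU.exists_fac x
  obtain ⟨t, ht, h2⟩ := exists_invol hC.toNS
  obtain ⟨P, hP⟩ := exists_isSylowIn 2 (⊤ : Subgroup G)
  obtain ⟨p, -, hp⟩ := Holt.exists_fix_of_odd (S := (Set.univ : Set X)) hP.pgroup (fun _ _ _ _ => trivial)
    (nf_odd h2 (fun _ _ _ _ => trivial) trivial (h.toFam.fac_fix hC ht) fun z _ => h.nf x z C hC t ht h2)
  obtain ⟨g, rfl⟩ := h.toT2.exists_smul p x
  exact ⟨cj g P, hP.cj_of_mem (mem_top g), cj_le_stabilizer.2 hp⟩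

theorem NF.even_fac (h : NF S) (x : X) : Even {C | Fac (S x) C}.ncard := by
  by_contra ho
  obtain ⟨P, hP, hx⟩ := h.exists_sylow x
  let _ : MulAction G (Subgroup G) := { smul := cj, one_smul := cj_one, mul_smul := cj_mul }
  obtain ⟨C, hC, hn⟩ := Holt.exists_fix_of_odd (S := {C | Fac (S x) C}) hP.pgroup
    (fun g hg C hC => fac_cj hC (h.toFam.mem_normalizer (hx hg))) (Nat.not_even_iff_odd.1 ho)
  obtain ⟨s, hs, h2, hc⟩ := exists_comm_invol hC.toNS hP.pgroup fun g hg => mem_normalizer_iff_cj.2 (hn g hg)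
  have h1 : zpowers s ≤ P := hP.le_of_normalizes (nf_two h2) le_top (zpowers_le.2
    (mem_normalizer_of_forall fun t ht => by rwa [hc t ht, mul_inv_cancel_right]))
  obtain ⟨y, h3, h4⟩ := h.nh P s x hP (h1 (mem_zpowers s)) h2 hc (h.toFam.fac_fix hC hs)
  exact h3 (h.nf x y C hC s hs h2 h4)

theorem NF.strip (h : NF S) (hxy : x ≠ y) (he : e ∈ S x) (h2 : orderOf e = 2) (hy : e • y = y)
    (hc : ∀ g : G, g * e = e * g → g • x = x) :
    ∃ v ∈ S y, v ∈ S x ∧ orderOf v = 2 ∧ wt (S y) v ≤ 2 := by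
  obtain ⟨k, k1, k2, k3⟩ := h.nti x y hxy
  obtain ⟨D, hD, a, ha, ka⟩ : ∃ D, Fac (S y) D ∧ ∃ a ∈ D, k * a ≠ a * k := by
    by_contra! hn
    exact k3 (eq_one_of_fac (h.semi y) k2 hn)
  have en := h.toFam.mem_normalizer hy
  have hm : e ∉ normalizer (D : Set G) := fun hn => by
    obtain ⟨s, hs, o, c⟩ := exists_comm_invol hD.toNS (nf_two h2) (zpowers_le.2 hn)
    exact hxy (h.nf y x D hD s hs o (hc s (c e (mem_zpowers e))))
  have s1 : ∀ a ∈ D, a * (e * a * e⁻¹) ∈ S y := fun a ha =>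
    mul_mem (hD.le ha) (conj_mem_of_mem_normalizer en (hD.le ha))
  have s2 : ∀ a ∈ D, (a * (e * a * e⁻¹)) • x = x := fun a ha => hc _ (strip_comm hD en (nf_sq h2) hm ha)
  have s3 : ∀ r ∈ D, r • x = x → r = 1 := fun r h1 h3 => by
    rcases eq_of_strip hD en hm (R := D ⊓ stabilizer G x) inf_le_left fun a ha =>
      inf_normalizer_le_normalizer_inf ⟨hD.nrm (s1 a ha), le_normalizer (s2 a ha)⟩ with c | c
    · exact mem_bot.1 (c.le ⟨h1, h3⟩)
    · obtain ⟨t, ht, o⟩ := exists_invol hD.toNS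
      exact absurd (h.nf y x D hD t ht o (c.ge ht).2) hxy
  obtain ⟨v, hv, o, w⟩ := exists_invol_of_strip (h.semi y) hD en (nf_sq h2) hm (R := S y ⊓ S x) inf_le_left
    (fun a ha => inf_normalizer_le_normalizer_inf ⟨le_normalizer (s1 a ha), h.toFam.mem_normalizer (s2 a ha)⟩)
    (fun r h1 h3 => s3 r h3 (h.fix h1.2)) (fun r h1 h3 => by
      have := s3 _ (mem_cj.1 h3) (h.fix (mul_mem (mul_mem (inv_mem he) h1.2) he))
      rwa [mul_assoc, inv_mul_eq_one, right_eq_mul] at this) ⟨k, ⟨k2, k1⟩, a, ha, ka⟩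
  exact ⟨v, hv.1, hv.2, o, w⟩

theorem NF.mem_smul (h : NF S) (he : e ∈ S p) {g : G} (hg : g * e = e * g) : e ∈ S (g • p) := by
  have := h.conj g he
  rwa [hg, mul_inv_cancel_right] at this

theorem NF.exists_minW (h : NF S) : ∃ u x y, MinW S u x y := by
  have ex : ∃ n, ∃ (p q : X) (v : G), p ≠ q ∧ orderOf v = 2 ∧ v ∈ S p ∧ v ∈ S q ∧ wt (S p) v = n := by
    obtain ⟨x, -, -⟩ := h.ntriv
    obtain ⟨P, hP, hx⟩ := h.exists_sylow x
    have hn : P ≤ normalizer (S x : Set G) := fun g hg => h.toFam.mem_normalizer (hx hg)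
    obtain ⟨C, hC⟩ := h.toU.exists_fac x
    have h1 : IsSylowIn 2 (P ⊓ S x) (stabilizer G x ⊓ S x) :=
      (hP.of_le hx le_top).inf_of_le_normalizer fun g hg => h.toFam.mem_normalizer hg
    obtain ⟨z, hz, o, c⟩ := exists_mem_center_of_normalized hP.pgroup (N := P ⊓ S x) inf_le_left
      ((le_inf le_normalizer hn).trans inf_normalizer_le_normalizer_inf) fun e => h1.not_dvd (by
        rw [e, relIndex_bot_left]
        exact (dvd_trans (by decide) hC.toNS.four_dvd).trans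
          (card_dvd_of_le (le_inf (fun c hc => h.toFam.fac_fix hC hc) hC.le)))
    obtain ⟨y, h3, h4⟩ := h.nh P z x hP hz.1 o (fun s hs => (c s hs).symm) (h.fix hz.2)
    by_cases hc : ∀ g : G, g * z = z * g → g • x = x
    · obtain ⟨v, a1, a2, a3, -⟩ := h.strip h3.symm hz.2 o h4 hc
      exact ⟨_, y, x, v, h3, a3, a1, a2, rfl⟩
    · push Not at hc
      obtain ⟨g, a1, a2⟩ := hc
      exact ⟨_, x, g • x, z, a2.symm, o, hz.2, h.mem_smul hz.2 a1, rfl⟩
  classical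
  obtain ⟨p, q, v, a1, a2, a3, a4, a5⟩ := Nat.find_spec ex
  exact ⟨v, p, q, a1, a2, a3, a4, fun p' q' v' b1 b2 b3 b4 => a5 ▸ Nat.find_min' ex ⟨p', q', v', b1, b2, b3, b4, rfl⟩⟩

theorem NF.low (h : NF S) (hu : MinW S u x y) (h3 : 3 ≤ wt (S x) u) (he : e ∈ S p)
    (h2 : orderOf e = 2) (hw : wt (S p) e < wt (S x) u) (hq : e • q = q) : q = p := by
  by_contra hn
  by_cases hc : ∀ g : G, g * e = e * g → g • p = p
  · obtain ⟨v, a1, a2, a3, a4⟩ := h.strip (Ne.symm hn) he h2 hq hc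
    have := hu.min q p v hn a3 a1 a2
    omega
  · push Not at hc
    obtain ⟨g, a1, a2⟩ := hc
    have := hu.min p (g • p) e a2.symm h2 he (h.mem_smul he a1)
    omega

/-- an involution centralising `u` with the unique fixed point `p` -/
theorem NF.exists_uf (h : NF S) (h2 : orderOf u = 2) (hp : p ∈ Pts S u) :
    ∃ c : G, orderOf c = 2 ∧ c * u = u * c ∧ c • p = p ∧ ∀ z, c • z = z → z = p := by
  obtain ⟨C, hC⟩ : (supp (S p) u).Nonempty :=
    Set.nonempty_iff_ne_empty.2 fun e => nf_ne h2 (eq_one_of_supp (h.semi p) hp e)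
  obtain ⟨c, a1, a2, a3, -⟩ := exists_prj_EE (h.semi p) hp (nf_sq h2) hC
  exact ⟨c, a3, comm_of_mem_EE (h.semi p) (nf_sq h2) a2 (self_mem_EE hp), h.toFam.fac_fix hC.1 a1,
    fun z => h.nf p z C hC.1 c a1 a3⟩

theorem NF.trans (h : NF S) (h2 : orderOf u = 2) (hp : p ∈ Pts S u) (hq : q ∈ Pts S u) :
    ∃ c : G, c * u = u * c ∧ c • p = q := by
  obtain ⟨c, a1, a2, a3, a4⟩ := h.exists_uf h2 hp
  obtain ⟨d, b1, b2, -, b4⟩ := h.exists_uf h2 hq
  have inv : ∀ {t : G}, t * u = u * t → ∀ g ∈ zpowers t, ∀ z ∈ {z | ∃ c : G, c * u = u * c ∧ c • p = z},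
      g • z ∈ {z | ∃ c : G, c * u = u * c ∧ c • p = z} := by
    rintro t ht g hg _ ⟨k, k1, rfl⟩
    have h1 : g * u = u * g :=
      mem_centralizer_singleton_iff.1 (zpowers_le.2 (mem_centralizer_singleton_iff.2 ht) hg)
    exact ⟨g * k, by rw [mul_assoc, k1, ← mul_assoc, h1, mul_assoc], mul_smul g k p⟩
  obtain ⟨z, hz, e⟩ := Holt.exists_fix_of_odd (nf_two b1) (inv b2)
    (nf_odd a1 (inv a2) ⟨1, by rw [one_mul, mul_one], one_smul _ _⟩ a3 fun z _ => a4 z)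
  exact b4 z (e d (mem_zpowers d)) ▸ hz

end CfsgLib.ON2
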