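import Mathlib
import Cfsg.Agent.Lib.ON2.NF1
import Cfsg.Agent.Lib.Gold.Tools

/-! Weight two (package NF2).  See `plans/ON2.md`. -/

set_option autoImplicit false
set_option linter.unusedSectionVars false

namespace CfsgLib.ON2

open Subgroup MulAction CfsgLib.Tech CfsgLib.OTI2

universe u

variable {G : Type u} [Group G] [Finite G] {X : Type u} [Finite X] [MulAction G X]
  {S : X → Subgroup G} {x y : X} {u : G}

theorem nf_four {t s : G} (ht : orderOf t = 2) (hs : orderOf s = 2) (hne : s ≠ t) :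
    4 ≤ Nat.card (closure {t, s} : Subgroup G) := by
  have h1 : zpowers t ≤ closure {t, s} := zpowers_le.2 (subset_closure (by simp))
  have h2 := card_dvd_of_le h1
  rw [Nat.card_zpowers, ht] at h2
  by_contra hn
  have h3 : 0 < Nat.card (closure {t, s} : Subgroup G) := Nat.card_pos
  have h4 := eq_of_le_of_card_ge h1 (by rw [Nat.card_zpowers, ht]; omega)
  rcases Holt.mem_zpowers_sq (nf_sq ht) (h4.ge (subset_closure (by simp : s ∈ ({t, s} : Set G)))) with e | e
  exacts [nf_ne hs e, hne e]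

open scoped commutatorElement in
theorem NF.three_le (h : NF S) (hu : MinW S u x y) : 3 ≤ wt (S x) u := by
  by_contra hn
  have u2 := nf_sq hu.ord
  have hT := h.semi x
  obtain ⟨C, hC⟩ : (supp (S x) u).Nonempty :=
    Set.nonempty_iff_ne_empty.2 fun e => nf_ne hu.ord (eq_one_of_supp hT hu.mx e)
  obtain ⟨D, hD, hne⟩ : ∃ D ∈ supp (S x) u, D ≠ C := by
    by_contra! hc
    exact hu.ne (h.nf x y C hC.1 u (mem_of_supp hT hC.1 hu.mx hc) hu.ord (h.fix hu.my)).symm
  have sp : supp (S x) u = {C, D} := (Set.eq_of_subset_of_ncard_le (Set.pair_subset hC hD) (by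
    rw [Set.ncard_pair hne.symm]
    exact Nat.lt_succ_iff.1 (not_le.1 hn))).symm
  obtain ⟨t, t1, t2, t3, t4⟩ := exists_prj_EE hT hu.mx u2 hC
  have tt := nf_sq t3
  have tu : t * u = u * t := comm_of_mem_EE hT u2 t2 (self_mem_EE hu.mx)
  obtain ⟨E, hE⟩ := exists_EE (T := S x) u2
  have t5 : t * u ∈ EE (S x) u := (hE _).1 (mul_mem ((hE _).2 t2) ((hE _).2 (self_mem_EE hu.mx)))
  have st := supp_of_mem hC.1 t1 (nf_ne t3)
  have su : supp (S x) (t * u) = {D} := by
    rw [supp_mul_EE u2 t2 (self_mem_EE hu.mx), st, sp]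
    ext A
    simp only [Set.mem_union, Set.mem_sdiff, Set.mem_singleton_iff, Set.mem_insert_iff]
    constructor
    · tauto
    · rintro rfl
      exact Or.inr ⟨Or.inr rfl, hne⟩
  have t6 : t * u ∈ D := mem_of_supp hT hD.1 t5.1 su.le
  have tu2 := sq_of_mem_EE hT u2 t5
  have t7 : orderOf (t * u) = 2 := Holt.orderOf_eq_two tu2 fun e => by
    obtain ⟨-, a, -, c⟩ := su.ge (Set.mem_singleton D)
    exact c (by rw [e, one_mul, mul_one])
  have uf : ∀ r : G, r = t ∨ r = t * u → r * r = 1 ∧ r • x = x ∧ ∀ z, r • z = z → z = x := by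
    rintro r (rfl | rfl)
    · exact ⟨tt, h.fix t2.1, fun z => h.nf x z C hC.1 _ t1 t3⟩
    · exact ⟨tu2, h.fix t5.1, fun z => h.nf x z D hD.1 _ t6 t7⟩
  have fx : ∀ g : G, ∀ z, (g * t * g⁻¹) • z = z → z = g • x := fun g z e => by
    rw [mul_smul, mul_smul, smul_eq_iff_eq_inv_smul] at e
    exact inv_smul_eq_iff.1 ((uf t (Or.inl rfl)).2.2 _ e)
  have eq : ∀ e ∈ EE (S x) u, ∀ f ∈ EE (S x) u, supp (S x) e = supp (S x) f → e = f := fun e he f hf c => by
    have h1 : e * f = 1 := eq_one_of_supp hT (mul_mem he.1 hf.1) (by rw [supp_mul_EE u2 he hf, c]; simp)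
    rw [eq_inv_of_mul_eq_one_left h1, Holt.inv_eq_of_sq (sq_of_mem_EE hT u2 hf)]
  obtain ⟨g, g1, g2⟩ := h.trans hu.ord hu.mx hu.my
  obtain ⟨o, ho, e⟩ := Holt.zstar_cent u2 tt tu (g := g) (fun k k1 k2 => by
    have a1 : k * t * k⁻¹ * t * (k * t * k⁻¹)⁻¹ = t ∨ k * t * k⁻¹ * t * (k * t * k⁻¹)⁻¹ = t * u := by
      have a2 : k * t * k⁻¹ * t * (k * t * k⁻¹)⁻¹ = t * ⁅t, k * t * k⁻¹⁆ := by
        rw [commutatorElement_def, Holt.inv_eq_of_sq tt, ← mul_assoc, ← mul_assoc, ← mul_assoc, tt, one_mul]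
      rw [a2]
      rcases Holt.mem_zpowers_sq u2 k2 with c | c
      · exact Or.inl (by rw [c, mul_one])
      · exact Or.inr (by rw [c])
    have a3 : k • x = x := (fx k x (fx _ x (uf _ a1).2.1).symm).symm
    have a4 := conj_mem_EE (h.toFam.mem_normalizer a3) k1 t2
    have a5 := wt_cj k (S x) t
    rw [h.toFam.cj_eq, a3, wt, wt, st, Set.ncard_singleton, Set.ncard_eq_one] at a5
    obtain ⟨A, hA⟩ := a5
    have a6 := supp_subset a4 (hA.ge (Set.mem_singleton A))
    rw [sp] at a6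
    rcases a6 with rfl | rfl
    · exact Or.inl (eq _ a4 _ t2 (hA.trans st.symm))
    · exact Or.inr (eq _ a4 _ t5 (hA.trans su.symm))) g1
  obtain ⟨r, hr, e'⟩ : ∃ r, (r = t ∨ r = t * u) ∧ g * t * g⁻¹ = r * o :=
    e.elim (fun e => ⟨_, Or.inl rfl, e⟩) fun e => ⟨_, Or.inr rfl, e⟩
  obtain ⟨w, hw, c⟩ := Holt.conj_of_odd (Holt.odd_OO (centralizer ({u} : Set G))) (uf r hr).1 (Holt.conj_sq tt g)
    (by rwa [e', ← mul_assoc, (uf r hr).1, one_mul])
  have b1 : w • x = y := g2 ▸ fx g _ (by rw [← c, mul_smul, mul_smul, inv_smul_smul, (uf r hr).2.1])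
  obtain ⟨s, s1, s2, s3, s4⟩ := exists_four hC.1.toNS t1 t3
  have su' : s * u = u * s := by
    have := t4 s s1
    rw [← s4, mul_inv_cancel_right] at this
    rw [this, inv_mul_cancel_right, ← this]
  have el := Holt.elem_closure (S := {t, s}) (by rintro _ (rfl | rfl); exacts [tt, nf_sq s2])
    (by rintro _ (rfl | rfl) _ (rfl | rfl); exacts [rfl, s4.symm, s4, rfl])
  have b2 : Holt.OO (centralizer ({u} : Set G)) ≤ stabilizer G x :=
    Gold.le_of_cent1 el (nf_four t3 s2 s3) (Holt.odd_OO _) (((closure_le _).2 (by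
      rintro _ (rfl | rfl)
      exacts [mem_centralizer_singleton_iff.2 tu, mem_centralizer_singleton_iff.2 su'])).trans
        (PComp.le_normalizer_opOf _)) fun a ha a1 k hk => h.toTI.fix_of_comm hC.1
          ((closure_le C).2 (Set.pair_subset t1 s1) ha) a1 (mem_centralizer_singleton_iff.1 hk.2)
  exact hu.ne ((b2 hw).symm.trans b1)

end CfsgLib.ON2
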