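import Mathlib
import Cfsg.Agent.Lib.ON2.Defs
import Cfsg.Agent.Lib.Gold.Defs
import Cfsg.Agent.Lib.Holt.Hp0
import Cfsg.Agent.Lib.StrEmb.Basic
import Cfsg.Agent.S3289

/-! A normal elementary subgroup of a point stabiliser with unique fixed points (package SE).  See `plans/ON2.md`. -/

set_option autoImplicit false
set_option linter.unusedSectionVars false

namespace CfsgLib.ON2

open Subgroup MulAction CfsgLib.Tech CfsgLib.OTI2

universe u

variable {G : Type u} [Group G] {X : Type u} [MulAction G X]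

/-- `C` is transitive on `Γ`; `E` is elementary, normal in `C_x`, and its elements act on `Γ`
trivially or with the unique fixed point `x` -/
structure SE (C E : Subgroup G) (Γ : Set X) (x : X) : Prop where
  mem : x ∈ Γ
  inv : ∀ c ∈ C, ∀ p ∈ Γ, c • p ∈ Γ
  tr : ∀ p ∈ Γ, ∃ c ∈ C, c • x = p
  le : E ≤ C
  fix : ∀ e ∈ E, e • x = x
  sq : ∀ e ∈ E, e * e = 1
  nrm : ∀ c ∈ C, c • x = x → ∀ e ∈ E, c * e * c⁻¹ ∈ E
  uf : ∀ e ∈ E, (∀ p ∈ Γ, e • p = p) ∨ ∀ p ∈ Γ, e • p = p → p = x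
  ne : ∃ e ∈ E, ∃ p ∈ Γ, e • p ≠ p

/-- the faithful form of `SE` -/
structure SE0 {Q Y : Type u} [Group Q] [MulAction Q Y] (E : Subgroup Q) (x : Y) : Prop where
  tr : ∀ p : Y, ∃ c : Q, c • x = p
  fix : ∀ e ∈ E, e • x = x
  sq : ∀ e ∈ E, e * e = 1
  nrm : ∀ c : Q, c • x = x → ∀ e ∈ E, c * e * c⁻¹ ∈ E
  uf : ∀ e ∈ E, e ≠ 1 → ∀ p : Y, e • p = p → p = x
  ne : ∃ e ∈ E, ∃ p : Y, e • p ≠ p

section faithful

variable {Q Y : Type u} [Group Q] [Finite Q] [Finite Y] [MulAction Q Y] {E : Subgroup Q} {x : Y}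

theorem SE0.exists_ne (h : SE0 E x) : ∃ e ∈ E, e ≠ 1 ∧ ∃ p : Y, p ≠ x := by
  obtain ⟨e, he, p, hp⟩ := h.ne
  refine ⟨e, he, ?_, p, ?_⟩
  · rintro rfl
    exact hp (one_smul _ _)
  · rintro rfl
    exact hp (h.fix e he)

theorem SE0.fix_of_conj (h : SE0 E x) {e g : Q} (he : e ∈ E) (h1 : e ≠ 1)
    (hg : (g * e * g⁻¹) • x = x) : g • x = x := by
  have h2 : g⁻¹ • x = x := h.uf e he h1 _ (by
    rw [mul_smul, mul_smul, smul_eq_iff_eq_inv_smul] at hg
    exact hg)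
  rw [inv_smul_eq_iff] at h2
  exact h2.symm

theorem SE0.exists_fix (h : SE0 E x) {T : Subgroup Q} (hT : IsPGroup 2 T) :
    ∃ p : Y, ∀ t ∈ T, t • p = p := by
  obtain ⟨e, he, h1, -⟩ := h.exists_ne
  have h2 := Holt.ncard_modEq (X := zpowers e) (S := (Set.univ : Set Y))
    (isPGroup_zpowers_of_pow (k := 1) (by rw [pow_one, pow_two, h.sq e he])) (Set.toFinite _)
    fun _ _ _ _ => trivial
  have h3 : {s : Y | s ∈ Set.univ ∧ ∀ g ∈ zpowers e, g • s = s} = {x} := by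
    ext s
    refine ⟨fun hs => h.uf e he h1 s (hs.2 e (mem_zpowers e)), ?_⟩
    rintro rfl
    exact ⟨trivial, fun g hg => h.fix g (zpowers_le.2 he hg)⟩
  rw [h3, Set.ncard_singleton] at h2
  obtain ⟨p, -, hp⟩ := Holt.exists_fix_of_odd (S := (Set.univ : Set Y)) hT
    (fun _ _ _ _ => trivial) (Nat.odd_iff.2 h2)
  exact ⟨p, hp⟩

/-- the involutions of the normal closure of `E` fixing `x` lie in `E` -/
theorem SE0.mem (h : SE0 E x) {t : Q} (ht : t ∈ normalClosure (E : Set Q)) (h2 : t * t = 1)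
    (hx : t • x = x) : t ∈ E := by
  obtain ⟨e, he, h1, p, hp⟩ := h.exists_ne
  have pE : IsPGroup 2 E := isPGroup_iff_mem.2 fun a ha => ⟨1, by rw [pow_one, pow_two, h.sq a ha]⟩
  obtain ⟨T, hT⟩ := pE.exists_le_sylow
  obtain ⟨q, hq⟩ := h.exists_fix T.isPGroup'
  obtain rfl : q = x := h.uf e he h1 q (hq e (hT he))
  have hb : E ≠ ⊥ := fun e0 => h1 (by rwa [e0, mem_bot] at he)
  have sc : Cfsg.IsStronglyClosed E (T : Subgroup Q) := ⟨hT, fun a ha g hg => by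
    by_cases a1 : a = 1
    · rw [a1, mul_one, mul_inv_cancel]
      exact one_mem E
    · exact h.nrm g (h.fix_of_conj ha a1 (hq _ hg)) a ha⟩
  have hH : stabilizer Q q ≠ ⊤ := fun e0 => by
    obtain ⟨c, hc⟩ := h.tr p
    exact hp (hc.symm.trans (e0 ▸ mem_top c : c ∈ stabilizer Q q))
  have om : Cfsg.omegaOne 2 E = E := le_antisymm ((closure_le _).2 fun a ha => ha.1)
    fun a ha => subset_closure ⟨ha, by rw [pow_two, h.sq a ha]⟩
  obtain ⟨-, key, -⟩ := Cfsg.Agent.S3289.result T E hb sc (stabilizer Q q) hH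
    (fun s hs s1 c hc => h.fix_of_conj hs s1 (by
      rw [mem_centralizer_singleton_iff.1 hc, mul_inv_cancel_right, h.fix s hs]))
    (fun g hg => h.fix_of_conj he h1 (h.fix _ (conj_mem_of_mem_normalizer (om ▸ hg) he)))
  obtain ⟨g, hg, hgt⟩ := (IsSylowIn.of_sylow (H := stabilizer Q q) T hq).exists_conj_mem hx
    (isPGroup_zpowers_of_pow (k := 1) (by rw [pow_one, pow_two, h2]))
  have h3 : g * t * g⁻¹ ∈ (T : Subgroup Q) ⊓ normalClosure (E : Set Q) :=
    ⟨hgt, normalClosure_normal.conj_mem t ht g⟩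
  have h4 : g * t * g⁻¹ ∈ E := by
    rcases key with key | key
    · exact key.ge h3
    · exact key.ge (subset_closure ⟨h3, by rw [conj_pow, pow_two, h2, mul_one, mul_inv_cancel]⟩)
  have h5 := h.nrm g⁻¹ ((stabilizer Q q).inv_mem hg) _ h4
  rwa [show g⁻¹ * (g * t * g⁻¹) * g⁻¹⁻¹ = t by group] at h5

theorem SE0.uniqueFix (h : SE0 E x) : StrEmb.UniqueFix (normalClosure (E : Set Q)) Y := by
  intro t ht
  have t2 : (t : Q) * t = 1 := congrArg Subtype.val (StrEmb.mul_self_of_orderOf ht)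
  have t1 : (t : Q) ≠ 1 := fun e => StrEmb.ne_one_of_orderOf ht (Subtype.ext e)
  obtain ⟨p, hp⟩ := h.exists_fix (T := zpowers (t : Q))
    (isPGroup_zpowers_of_pow (k := 1) (by rw [pow_one, pow_two, t2]))
  have hp' : (t : Q) • p = p := hp _ (mem_zpowers _)
  obtain ⟨c, rfl⟩ := h.tr p
  have h1 : c⁻¹ * t * c⁻¹⁻¹ ∈ E := h.mem (normalClosure_normal.conj_mem _ t.2 c⁻¹)
    (by rw [← pow_two, conj_pow, pow_two, t2, mul_one, mul_inv_cancel])
    (by rw [inv_inv, mul_smul, mul_smul, hp', inv_smul_smul])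
  refine ⟨c • x, hp', fun q hq => ?_⟩
  have hq' : (t : Q) • q = q := hq
  have h2 := h.uf _ h1 (fun e => t1 (conj_eq_one_iff.1 e)) (c⁻¹ • q)
    (by rw [inv_inv, mul_smul, mul_smul, smul_inv_smul, hq'])
  exact inv_smul_eq_iff.1 h2

theorem SE0.conj (h : SE0 E x) {e f : Q} (he : e ∈ E) (hf : f ∈ E) (e1 : e ≠ 1) (f1 : f ≠ 1) :
    ∃ c : Q, c • x = x ∧ c * e * c⁻¹ = f := by
  obtain ⟨-, -, -, p, hp⟩ := h.exists_ne
  have : Nontrivial Y := ⟨⟨p, x, hp⟩⟩
  have ord : ∀ a (ha : a ∈ normalClosure (E : Set Q)), a * a = 1 → a ≠ 1 →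
      orderOf (⟨a, ha⟩ : normalClosure (E : Set Q)) = 2 := fun a ha h1 h2 =>
    StrEmb.orderOf_eq_two (Subtype.ext h1) fun e0 => h2 (congrArg Subtype.val e0)
  have tr : ∀ q : Y, ∃ w : normalClosure (E : Set Q), w • x = q := fun q => by
    by_cases hq : x = q
    · exact ⟨1, by rw [one_smul, hq]⟩
    · obtain ⟨c, rfl⟩ := h.tr q
      obtain ⟨w, -, -, hw, -⟩ := h.uniqueFix.exists_swap
        (ord e (le_normalClosure he) (h.sq e he) e1)
        (ord _ (normalClosure_normal.conj_mem _ (le_normalClosure he) c)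
          (by rw [← pow_two, conj_pow, pow_two, h.sq e he, mul_one, mul_inv_cancel])
          fun e0 => e1 (conj_eq_one_iff.1 e0)) hq (h.fix e he)
        (StrEmb.conj_smul_smul (h.fix e he))
      exact ⟨w, hw⟩
  have : IsPretransitive (normalClosure (E : Set Q)) Y := ⟨fun a b => by
    obtain ⟨v, rfl⟩ := tr a
    obtain ⟨w, rfl⟩ := tr b
    exact ⟨w * v⁻¹, by rw [mul_smul, inv_smul_smul]⟩⟩
  obtain ⟨c, hc⟩ := isConj_iff.1 (h.uniqueFix.isConj (ord e (le_normalClosure he) (h.sq e he) e1)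
    (ord f (le_normalClosure hf) (h.sq f hf) f1))
  have hc' : (c : Q) * e * (c : Q)⁻¹ = f := congrArg Subtype.val hc
  exact ⟨c, h.fix_of_conj he e1 (by rw [hc', h.fix f hf]), hc'⟩

theorem SE0.not_ext (h : SE0 E x) {t : Q} (hx : t • x = x) (h2 : t * t = 1)
    (hu : ∀ e ∈ E, ∀ p : Y, (t * e) • p = p → p = x) : False := by
  obtain ⟨e, he, e1, p, hp⟩ := h.exists_ne
  obtain ⟨c, rfl⟩ := h.tr p
  have hs : c * e * c⁻¹ ∈ normalClosure (E : Set Q) :=
    normalClosure_normal.conj_mem _ (le_normalClosure he) c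
  have s2 : c * e * c⁻¹ * (c * e * c⁻¹) = 1 := by
    rw [← pow_two, conj_pow, pow_two, h.sq e he, mul_one, mul_inv_cancel]
  have sp : ∀ k : Q, Commute (c * e * c⁻¹) k → k • c • x = c • x := fun k hk => by
    have h1 : (c * e * c⁻¹) • k • c • x = k • c • x := by
      rw [← mul_smul, hk.eq, mul_smul, StrEmb.conj_smul_smul (h.fix e he)]
    rw [mul_smul, mul_smul, smul_eq_iff_eq_inv_smul] at h1
    exact inv_smul_eq_iff.1 (h.uf e he e1 _ h1)
  generalize c * e * c⁻¹ = s at hs s2 sp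
  rcases Nat.even_or_odd (orderOf (t * s)) with h3 | h3
  · obtain ⟨m, k2, kt, ks⟩ := StrEmb.exists_central_of_even h2 s2 h3
    have alt : ∀ n : ℕ, (t * s) ^ n ∈ normalClosure (E : Set Q) ∨
        t * (t * s) ^ n ∈ normalClosure (E : Set Q) := fun n => by
      induction n with
      | zero => exact Or.inl (by rw [pow_zero]; exact one_mem _)
      | succ n ih =>
        rcases ih with ih | ih
        · refine Or.inr ?_
          rw [pow_succ', ← mul_assoc, ← mul_assoc, h2, one_mul]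
          exact mul_mem hs ih
        · refine Or.inl ?_
          rw [show (t * s) ^ (n + 1) = t * s * t⁻¹ * (t * (t * s) ^ n) by rw [pow_succ']; group]
          exact mul_mem (normalClosure_normal.conj_mem _ hs t) ih
    have am := alt m
    generalize (t * s) ^ m = k at k2 kt ks am
    have kk := StrEmb.mul_self_of_orderOf k2
    have kx : k • x = x := hu 1 (one_mem E) _ (by rw [mul_one, ← mul_smul, kt.eq, mul_smul, hx])
    rcases am with am | am
    · exact hp (h.uf k (h.mem am kk kx) (StrEmb.ne_one_of_orderOf k2) _ (sp k ks))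
    · have h4 : t * k ∈ E := h.mem am (by rw [← pow_two, kt.mul_pow, pow_two, pow_two, h2, kk, one_mul])
        (by rw [mul_smul, kx, hx])
      exact hp (hu _ h4 _ (by rw [← mul_assoc, h2, one_mul, sp k ks]))
  · obtain ⟨w, -, hw, -⟩ := StrEmb.exists_swap_of_odd h2 s2 h3
    have h4 : t ∈ normalClosure (E : Set Q) := by
      have h5 := normalClosure_normal.conj_mem _ hs w⁻¹
      rwa [← hw, show w⁻¹ * (w * t * w⁻¹) * w⁻¹⁻¹ = t by group] at h5
    exact hp (hu t (h.mem h4 h2 hx) _ (by rw [h2, one_smul]))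

end faithful

variable [Finite G] [Finite X] {C E : Subgroup G} {Γ : Set X} {x : X}

theorem SE.le_SS (h : SE C E Γ x) : C ≤ Holt.SS G Γ := fun c hc => Holt.mem_SS.2 (h.inv c hc)

/-- the permutation action on `Γ` -/
def SE.φ (h : SE C E Γ x) : C →* Equiv.Perm Γ := (Holt.H0.res G Γ).comp (inclusion h.le_SS)

/-- the map onto the image -/
def SE.π (h : SE C E Γ x) : C →* h.φ.range := h.φ.rangeRestrict

theorem SE.π_smul (h : SE C E Γ x) (c : C) (p : Γ) : ((h.π c • p : Γ) : X) = (c : G) • (p : X) := rfl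

theorem SE.π_surj (h : SE C E Γ x) : Function.Surjective h.π := h.φ.rangeRestrict_surjective

theorem SE.se0 (h : SE C E Γ x) : SE0 ((E.subgroupOf C).map h.π) (⟨x, h.mem⟩ : Γ) where
  tr p := by
    obtain ⟨c, hc, e⟩ := h.tr p p.2
    exact ⟨h.π ⟨c, hc⟩, Subtype.ext e⟩
  fix := by
    rintro _ ⟨e, he, rfl⟩
    exact Subtype.ext (h.fix e he)
  sq := by
    rintro _ ⟨e, he, rfl⟩
    rw [← map_mul, show e * e = 1 from Subtype.ext (h.sq e he), map_one]
  nrm := by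
    rintro c hc _ ⟨e, he, rfl⟩
    obtain ⟨c, rfl⟩ := h.π_surj c
    rw [← map_mul, ← map_inv, ← map_mul]
    exact ⟨_, h.nrm c c.2 (congrArg Subtype.val hc) e he, rfl⟩
  uf := by
    rintro _ ⟨e, he, rfl⟩ h1 p hp
    rcases h.uf e he with h2 | h2
    · exact (h1 (Subtype.ext (Equiv.ext fun q => Subtype.ext (h2 q q.2)))).elim
    · exact Subtype.ext (h2 p p.2 (congrArg Subtype.val hp))
  ne := by
    obtain ⟨e, he, p, hp, hne⟩ := h.ne
    exact ⟨h.π ⟨e, h.le he⟩, ⟨_, he, rfl⟩, ⟨p, hp⟩, fun e0 => hne (congrArg Subtype.val e0)⟩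

theorem SE.conj (h : SE C E Γ x) {e f : G} (he : e ∈ E) (hf : f ∈ E) (he' : ∃ p ∈ Γ, e • p ≠ p)
    (hf' : ∃ p ∈ Γ, f • p ≠ p) : ∃ c ∈ C, c • x = x ∧ ∀ p ∈ Γ, (c * e * c⁻¹) • p = f • p := by
  have ne : ∀ a (ha : a ∈ E), (∃ p ∈ Γ, a • p ≠ p) → h.π ⟨a, h.le ha⟩ ≠ 1 := fun a ha ⟨p, hp, h1⟩ e0 =>
    h1 ((h.π_smul ⟨a, h.le ha⟩ ⟨p, hp⟩).symm.trans (by rw [e0, one_smul]))
  obtain ⟨c, hc, e0⟩ := h.se0.conj ⟨⟨e, h.le he⟩, he, rfl⟩ ⟨⟨f, h.le hf⟩, hf, rfl⟩ (ne e he he')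
    (ne f hf hf')
  obtain ⟨c, rfl⟩ := h.π_surj c
  rw [← map_mul, ← map_inv, ← map_mul] at e0
  exact ⟨c, c.2, congrArg Subtype.val hc, fun p hp =>
    (h.π_smul _ ⟨p, hp⟩).symm.trans (by rw [e0, h.π_smul])⟩

theorem SE.not_ext' (h : SE C E Γ x) {t : G} (ht : t ∈ C) (hx : t • x = x) (h2 : t * t = 1)
    (hu : ∀ e ∈ E, ∀ p ∈ Γ, (t * e) • p = p → p = x) : False := by
  refine h.se0.not_ext (t := h.π ⟨t, ht⟩) (Subtype.ext hx)
    (by rw [← map_mul, show (⟨t, ht⟩ : C) * ⟨t, ht⟩ = 1 from Subtype.ext h2, map_one]) ?_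
  rintro _ ⟨e, he, rfl⟩ p hp
  rw [← map_mul] at hp
  exact Subtype.ext (hu e he p p.2 (congrArg Subtype.val hp))

set_option linter.unusedVariables false in
theorem SE.not_ext (h : SE C E Γ x) {t : G} (ht : t ∈ C) (hx : t • x = x) (h2 : t * t = 1)
    (hc : t ∈ Gold.ncl E C ∨ ∀ g ∈ Gold.ncl E C, g • x = x → g * t = t * g)
    (hu : ∀ e ∈ E, ∀ p ∈ Γ, (t * e) • p = p → p = x) : False :=
  h.not_ext' ht hx h2 hu

end CfsgLib.ON2
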