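import Mathlib
import Cfsg.Agent.Lib.ON2.NF2
import Cfsg.Agent.Lib.ON2.SE

/-! Weight at least three (package NF3).  See `plans/ON2.md`. -/

set_option autoImplicit false

namespace CfsgLib.ON2

open Subgroup MulAction CfsgLib.Tech CfsgLib.OTI2

universe u

variable {G : Type u} [Group G] [Finite G] {X : Type u} [Finite X] [MulAction G X]
  {S : X → Subgroup G}

theorem nf3_wt_mul {T : Subgroup G} {e f : G} (he : e ∈ T) (hf : f ∈ T) :
    wt T (e * f) ≤ wt T e + wt T f :=
  (Set.ncard_le_ncard (supp_mul he hf) (Set.toFinite _)).trans (Set.ncard_union_le _ _)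

theorem nf3_wt_one {T C : Subgroup G} {e : G} (hC : Fac T C) (he : e ∈ C) (h2 : orderOf e = 2) :
    wt T e = 1 := by
  rw [wt, supp_of_mem hC he (by rintro rfl; simp at h2), Set.ncard_singleton]

omit [Finite G] in
theorem nf3_sq {e : G} (h2 : orderOf e = 2) : e * e = 1 := by
  rw [← sq, ← h2, pow_orderOf_eq_one]

theorem NF.false (h : NF S) : False := by
  obtain ⟨u, x, y, hu⟩ := h.exists_minW
  have h3 := h.three_le hu
  have uu := nf3_sq hu.ord
  have hT := h.semi x
  have hF : Fam S := h.toFam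
  obtain ⟨E, hE⟩ := exists_EE (T := S x) uu
  have uE : u ∈ EE (S x) u := self_mem_EE hu.mx
  have low : ∀ e ∈ S x, e * e = 1 → e ≠ 1 → wt (S x) e < wt (S x) u → ∀ q, e • q = q → q = x :=
    fun e he e2 e1 hw q hq => h.low hu h3 he (orderOf_eq_prime (by rw [sq, e2]) e1) hw hq
  have lowE : ∀ e ∈ EE (S x) u, e ≠ 1 → e ≠ u → ∀ q, e • q = q → q = x := fun e he e1 e2 =>
    low e he.1 (sq_of_mem_EE hT uu he) e1 (wt_lt hT hu.mx uu he e2)
  obtain ⟨C1, hC1, C2, hC2, h12⟩ := (Set.one_lt_ncard (Set.toFinite (supp (S x) u))).1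
    (lt_of_lt_of_le (by decide) h3)
  obtain ⟨u1, m1, e1, o1, -⟩ := exists_prj_EE hT hu.mx uu hC1
  obtain ⟨u2, m2, e2, o2, -⟩ := exists_prj_EE hT hu.mx uu hC2
  have w1 := nf3_wt_one hC1.1 m1 o1
  have n1 : u1 ≠ 1 := by rintro rfl; simp at o1
  have n2 : u2 ≠ 1 := by rintro rfl; simp at o2
  have e12 : u1 * u2 ∈ EE (S x) u := (hE _).1 (mul_mem ((hE _).2 e1) ((hE _).2 e2))
  have w12 : wt (S x) (u1 * u2) = 2 := by
    rw [wt, supp_mul_EE uu e1 e2, supp_of_mem hC1.1 m1 n1, supp_of_mem hC2.1 m2 n2,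
      Set.sdiff_singleton_eq_self (by simpa using h12.symm), Set.sdiff_singleton_eq_self (by simpa using h12)]
    exact Set.ncard_pair h12
  have w0 : wt (S x) 1 = 0 := by
    rw [wt, Set.ncard_eq_zero]
    exact Set.eq_empty_of_forall_notMem fun C ⟨_, a, _, k⟩ => k (by rw [one_mul, mul_one])
  have mv : ∀ e ∈ EE (S x) u, 0 < wt (S x) e → wt (S x) e < 3 → ∃ p ∈ Pts S u, e • p ≠ p :=
    fun e he k1 k2 => ⟨y, hu.my, fun k => hu.ne (lowE e he (by rintro rfl; omega) (by rintro rfl; omega) y k).symm⟩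
  have se : SE (centralizer {u}) E (Pts S u) x :=
    { mem := hu.mx
      inv := fun c hc p hp => by
        have := hF.conj c hp
        rwa [mem_centralizer_singleton_iff.1 hc, mul_inv_cancel_right] at this
      tr := fun p hp => by
        obtain ⟨c, k1, k2⟩ := h.trans hu.ord hu.mx hp
        exact ⟨c, mem_centralizer_singleton_iff.2 k1, k2⟩
      le := fun e he => mem_centralizer_singleton_iff.2 (comm_of_mem_EE hT uu ((hE _).1 he) uE)
      fix := fun e he => hF.fix ((hE _).1 he).1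
      sq := fun e he => sq_of_mem_EE hT uu ((hE _).1 he)
      nrm := fun c hc hx e he => (hE _).2 (conj_mem_EE (hF.mem_normalizer hx)
        (mem_centralizer_singleton_iff.1 hc) ((hE _).1 he))
      uf := fun e he => by
        by_cases k1 : e = 1
        · exact .inl fun p _ => by rw [k1, one_smul]
        by_cases k2 : e = u
        · exact .inl fun p hp => by rw [k2]; exact hF.fix hp
        exact .inr fun p _ => lowE e ((hE _).1 he) k1 k2 p
      ne := ⟨u1, (hE _).2 e1, mv u1 e1 (by omega) (by omega)⟩ }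
  obtain ⟨c, hc, cx, hp⟩ := se.conj ((hE _).2 e1) ((hE _).2 e12) (mv u1 e1 (by omega) (by omega))
    (mv _ e12 (by omega) (by omega))
  have e' := conj_mem_EE (hF.mem_normalizer cx) (mem_centralizer_singleton_iff.1 hc) e1
  have w' : wt (S x) (c * u1 * c⁻¹) = 1 := by
    have := wt_cj c (S x) u1
    rwa [hF.cj_eq, cx, w1] at this
  have w3 : wt (S x) u = 3 := by
    refine le_antisymm ?_ h3
    have ee : c * u1 * c⁻¹ * (u1 * u2) ∈ EE (S x) u := (hE _).1 (mul_mem ((hE _).2 e') ((hE _).2 e12))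
    by_cases k1 : c * u1 * c⁻¹ * (u1 * u2) = 1
    · rw [eq_inv_of_mul_eq_one_left k1, inv_eq_of_mul_eq_one_right (sq_of_mem_EE hT uu e12)] at w'
      omega
    by_cases k2 : c * u1 * c⁻¹ * (u1 * u2) = u
    · have := nf3_wt_mul e'.1 e12.1
      rw [k2] at this
      omega
    exact absurd (lowE _ ee k1 k2 y (by
      rw [mul_smul, ← hp y hu.my, ← mul_smul, sq_of_mem_EE hT uu e', one_smul])).symm hu.ne
  obtain ⟨C4, hC4, n4⟩ : ∃ C, Fac (S x) C ∧ C ∉ supp (S x) u := by
    by_contra! k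
    have := h.even_fac x
    rw [show {C | Fac (S x) C} = supp (S x) u from Set.ext fun C => ⟨k C, fun m => m.1⟩] at this
    exact absurd (w3 ▸ this : Even 3) (by decide)
  obtain ⟨t, ht, ot⟩ := exists_invol hC4.toNS
  have l4 : C4 ≤ centralizer {u} := fun a ha =>
    mem_centralizer_singleton_iff.2 ((wt_not_mem hC4).1 n4 a ha).symm
  have wt1 := nf3_wt_one hC4 ht ot
  have key : ∀ e ∈ EE (S x) u, wt (S x) e ≤ 1 → ∀ p, (t * e) • p = p → p = x := fun e he hw => by
    have k := (wt_not_mem hC4).1 fun m => n4 (supp_subset he m)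
    refine low _ (mul_mem (hC4.le ht) he.1) ?_ (fun e1 => ?_) ?_
    · rw [mul_assoc, ← mul_assoc e, k t ht, mul_assoc, sq_of_mem_EE hT uu he, mul_one, nf3_sq ot]
    · rw [eq_inv_of_mul_eq_one_right e1, inv_eq_of_mul_eq_one_right (nf3_sq ot)] at k
      rw [hC4.toNS.eq_one_of_central ht k] at ot
      simp at ot
    · have := nf3_wt_mul (hC4.le ht) he.1
      omega
  refine se.not_ext (l4 ht) (hF.fac_fix hC4 ht) (nf3_sq ot) ?_ fun e he p hp k => ?_
  · by_contra! k
    obtain ⟨k1, g, g1, g2, g3⟩ := k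
    exact k1 (le_of_not_comm hC4 (hF.mem_normalizer g2) g1 (l4.trans (Gold.le_normalizer_ncl _ _))
      ⟨t, ht, g3⟩ ht)
  · have he' := (hE _).1 he
    by_cases hw : wt (S x) e ≤ 1
    · exact key e he' hw p k
    refine key (e * u) ((hE _).1 (mul_mem he ((hE _).2 uE))) ?_ p (by
      rw [← mul_assoc, mul_smul, hF.fix hp, k])
    have := Set.ncard_sdiff_add_ncard_of_subset (supp_subset he') (Set.toFinite _)
    rw [wt, supp_mul_EE uu he' uE, Set.sdiff_eq_empty.2 (supp_subset he'), Set.empty_union]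
    unfold wt at hw w3
    omega

end CfsgLib.ON2
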