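import Mathlib
import Cfsg.Agent.Lib.ON2.D1

/-! One block through two points, one moving factor (package ONE1).  See `plans/ON2.md`. -/

set_option autoImplicit false
set_option linter.unusedSectionVars false

namespace CfsgLib.ON2

open Subgroup MulAction CfsgLib.Tech CfsgLib.OTI2

universe u

variable {G : Type u} [Group G] [Finite G] {X : Type u} [Finite X] [MulAction G X]
  {S : X → Subgroup G}

/-- a simple group acts faithfully or trivially on an invariant set -/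
theorem one1_fix {D : Subgroup G} (h : NS D) {A : Set X} (hA : ∀ d ∈ D, ∀ p ∈ A, d • p ∈ A) {k : G}
    (hk : k ∈ D) (h1 : k ≠ 1) (hf : ∀ p ∈ A, k • p = p) : ∀ d ∈ D, ∀ p ∈ A, d • p = p := by
  rcases h.normal (R := D ⊓ fixingSubgroup G A) inf_le_left (fun d hd => mem_normalizer_fintype
      fun r hr => ⟨D.mul_mem (D.mul_mem hd hr.1) (D.inv_mem hd), (mem_fixingSubgroup_iff G).2 fun p hp => by
        rw [mul_smul, mul_smul, (mem_fixingSubgroup_iff G).1 hr.2 _ (hA _ (inv_mem hd) p hp),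
          smul_inv_smul]⟩) with e | e
  · exact absurd (mem_bot.1 (e ▸ ⟨hk, (mem_fixingSubgroup_iff G).2 hf⟩)) h1
  · exact fun d hd => (mem_fixingSubgroup_iff G).1 (e.ge hd).2

theorem One.not_unique (h : One S)
    (hu : ∀ (x w : X) (C D : Subgroup G), x ≠ w → Fac (S x) C → Fac (S x) D →
      ¬ C ≤ stabilizer G w → ¬ D ≤ stabilizer G w → C = D) : False := by
  have hU := h.toU
  have hF := hU.toFam
  obtain ⟨x, y, hxy⟩ := h.ntriv
  obtain ⟨V₀, hV₀⟩ := h.blk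
  obtain ⟨V, hV⟩ := Ed_nonempty hU hV₀ hxy
  obtain ⟨hB, ⟨C, hC, hVC⟩, D, hD, hVD⟩ := id hV
  have mD := h.toPr.moves hxy hV hD hVD
  have mC := h.toPr.moves hxy.symm (Ed_comm (S := S) x y ▸ hV) hC hVC
  obtain ⟨C₂, hC₂, hne⟩ := h.many x C hC
  have f2 : C₂ ≤ stabilizer G y := by
    by_contra k
    exact hne (hu x y _ _ hxy hC₂ hC k mC)
  have nD : ∀ c ∈ C₂, ∀ d ∈ D, c * d * c⁻¹ ∈ D := fun c hc => by
    have e : cj c D = D := hu y x _ _ hxy.symm (by simpa [mem_stabilizer_iff.1 (f2 hc)] using hF.fac_cj hD c)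
      hD (by rwa [← hF.fac_fix hC₂ hc, cj_le_stabilizer]) mD
    exact cj_le_iff.1 e.le
  have inv : ∀ c ∈ C₂, ∀ p ∈ {p | ∃ d ∈ D, d • x = p}, c • p ∈ {p | ∃ d ∈ D, d • x = p} := by
    rintro c hc _ ⟨d, hd, rfl⟩
    exact ⟨_, nD c hc d hd, by
      rw [mul_smul, mul_smul, inv_smul_eq_iff.2 (hF.fac_fix hC₂ hc).symm]⟩
  have fO : ∀ p ∈ {p | ∃ d ∈ D, d • x = p}, C₂ ≤ stabilizer G p := fun p hp => by
    by_contra k
    have hx : x ≠ p := fun e => k (e ▸ fun c hc => hF.fac_fix hC₂ hc)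
    obtain ⟨g, g1, g2⟩ := h.two hxy.symm hx
    have e : cj g D = C₂ := hu x p _ _ hx (g1 ▸ hF.fac_cj hD g) hC₂ (by rwa [← g2, cj_le_stabilizer]) k
    have := Set.ncard_lt_ncard (s := (g • ·) '' {p | ∃ d ∈ D, d • x = p}) (t := {p | ∃ d ∈ D, d • x = p})
      ⟨by
        rintro _ ⟨_, ⟨d, hd, rfl⟩, rfl⟩
        have := inv _ (e ▸ conj_mem_cj.2 hd) p hp
        rwa [← g2, ← mul_smul, inv_mul_cancel_right, mul_smul] at this, fun k => by
        obtain ⟨_, ⟨d, hd, rfl⟩, e1⟩ := k ⟨1, one_mem _, one_smul _ _⟩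
        refine hx (MulAction.injective (g * d * g⁻¹) ((hF.fac_fix hC₂ (e ▸ conj_mem_cj.2 hd)).trans ?_))
        rw [← e1, ← g2]
        simp [mul_smul]⟩ (Set.toFinite _)
    rw [Set.ncard_image_of_injective _ (MulAction.injective g)] at this
    exact this.false
  obtain ⟨F, hF', c, hc, d, hd, hn⟩ := hU.not_comm hC₂ f2
  by_cases e : F = D
  · subst e
    refine mD fun d' hd' => one1_fix hD.toNS (A := {p | ∃ d ∈ F, d • x = p}) ?_
      (mul_mem (nD c hc d hd) (inv_mem hd)) (fun k => hn ?_) ?_ d' hd' x ⟨1, one_mem _, one_smul _ _⟩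
    · rintro a ha _ ⟨b, hb, rfl⟩
      exact ⟨_, mul_mem ha hb, mul_smul _ _ _⟩
    · rwa [mul_inv_eq_one, mul_inv_eq_iff_eq_mul] at k
    · rintro _ ⟨b, hb, rfl⟩
      rw [mul_smul, mul_smul, mul_smul, mem_stabilizer_iff.1 (fO (d⁻¹ • b • x)
        ⟨_, mul_mem (inv_mem hd) hb, mul_smul _ _ _⟩ (inv_mem hc)), smul_inv_smul]
      exact fO _ ⟨b, hb, rfl⟩ hc
  · refine hn (hU.fixc hC₂ hF' ?_ f2 ?_ hc hd)
    · rintro rfl
      have := hB.max x y _ _ hxy hC₂ hF'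
      rw [inf_idem, hU.card_eq hC₂ hC] at this
      exact h.pr V C x hB hC (eq_of_le_of_card_ge hVC this)
    · by_contra k
      exact e (hu y x _ _ hxy.symm hF' hD k mD)

end CfsgLib.ON2
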