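import Mathlib
import Cfsg.Agent.Lib.ON2.One1

/-! One block through two points, several moving factors (package ONE2).  See `plans/ON2.md`. -/

set_option autoImplicit false
set_option linter.unusedSectionVars false

namespace CfsgLib.ON2

open Subgroup MulAction CfsgLib.Tech CfsgLib.OTI2

universe u

theorem one2_dc {α β : Type*} [Finite α] [Finite β] (s : Set α) (t : Set β) (r : α → β → Prop) {m n : ℕ}
    (hm : ∀ a ∈ s, m ≤ {b | b ∈ t ∧ r a b}.ncard) (hn : ∀ b ∈ t, {a | a ∈ s ∧ r a b}.ncard ≤ n) :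
    s.ncard * m ≤ t.ncard * n := by
  classical
  rw [Set.ncard_eq_toFinset_card s, Set.ncard_eq_toFinset_card t]
  refine Finset.card_mul_le_card_mul r (fun a ha => ?_) fun b hb => ?_
  · convert hm a (by simpa using ha)
    rw [← Set.ncard_coe_finset]
    congr 1
    ext b
    simp [Finset.bipartiteAbove]
  · convert hn b (by simpa using hb)
    rw [← Set.ncard_coe_finset]
    congr 1
    ext a
    simp [Finset.bipartiteBelow]

variable {G : Type u} [Group G] [Finite G] {X : Type u} [Finite X] [MulAction G X]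
  {S : X → Subgroup G} {x y z w : X} {C D V W : Subgroup G}

/-- the points moved by `C` which are not of type `C` -/
def Mv2 (S : X → Subgroup G) (x : X) (C : Subgroup G) : Set X :=
  {w | w ≠ x ∧ w ∉ Ty S x C ∧ ¬ C ≤ stabilizer G w}

theorem one2_Ty (h : U S) (g : G) : g • w ∈ Ty S (g • x) (cj g C) ↔ w ∈ Ty S x C := by
  refine and_congr (MulAction.injective g).ne_iff ⟨fun ⟨V, h1, h2⟩ => ⟨cj g⁻¹ V, ?_, ?_⟩,
    fun ⟨V, h1, h2⟩ => ⟨_, (cj_mem_Ed h g).2 h1, cj_mono g h2⟩⟩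
  · rwa [← cj_mem_Ed h g, cj_cj_inv]
  · rwa [← cj_le_cj_iff g, cj_cj_inv]

theorem one2_card {A B : Set X} (g : G) (h : ∀ w, g • w ∈ B ↔ w ∈ A) : B.ncard = A.ncard := by
  rw [← Set.ncard_image_of_injective A (MulAction.injective g)]
  congr 1
  ext w
  exact ⟨fun k => ⟨g⁻¹ • w, (h _).1 (by rwa [smul_inv_smul]), smul_inv_smul _ _⟩,
    fun ⟨v, hv, e⟩ => e ▸ (h v).2 hv⟩

theorem one2_Ty_card (h : U S) (hC : Fac (S x) C) (hD : Fac (S y) D) :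
    (Ty S y D).ncard = (Ty S x C).ncard := by
  obtain ⟨g, rfl, rfl⟩ := h.exists_cj hC hD
  exact one2_card g fun _ => one2_Ty h g

theorem one2_Mv_card (h : U S) (hC : Fac (S x) C) (hD : Fac (S y) D) :
    (Mv2 S y D).ncard = (Mv2 S x C).ncard := by
  obtain ⟨g, rfl, rfl⟩ := h.exists_cj hC hD
  exact one2_card g fun _ => and_congr (MulAction.injective g).ne_iff
    (and_congr (one2_Ty h g).not cj_le_stabilizer.not)

theorem One.ty_eq (h : One S) (hC : Fac (S x) C) (hD : Fac (S x) D) (h1 : w ∈ Ty S x C)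
    (h2 : w ∈ Ty S x D) : C = D := by
  obtain ⟨hw, V, hV, k1⟩ := h1
  obtain ⟨-, W, hW, k2⟩ := h2
  obtain rfl := h.one x w V W hw.symm hV hW
  exact hV.1.fac_eq hC hD k1 k2

theorem One.gam_card (h : One S) (hV : Blk S V) (hW : Blk S W) :
    (Gam S W).ncard = (Gam S V).ncard := by
  obtain ⟨x, hx, y, hy, hxy⟩ := hV.exists_two
  obtain ⟨x', hx', y', hy', hxy'⟩ := hW.exists_two
  obtain ⟨g, rfl, rfl⟩ := h.two hxy hxy'
  rw [h.one _ _ W _ hxy' ⟨hW, hx', hy'⟩ ((cj_mem_Ed h.toU g).2 ⟨hV, hx, hy⟩), ncard_Gam_cj h.toU]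

theorem One.ty_le (h : One S)
    (hm : ∀ x w : X, x ≠ w → ∃ C D : Subgroup G, Fac (S x) C ∧ Fac (S x) D ∧ C ≠ D ∧
      ¬ C ≤ stabilizer G w ∧ ¬ D ≤ stabilizer G w) (hC : Fac (S x) C) :
    (Ty S x C).ncard ≤ (Mv2 S x C).ncard := by
  have h1 := one2_dc {D | Fac (S x) D} {w | w ≠ x} (fun D w => w ∈ Ty S x D) (m := (Ty S x C).ncard)
    (n := 1) (fun D hD => by
      rw [← one2_Ty_card h.toU hC hD]
      exact Set.ncard_le_ncard (fun w hw => ⟨hw.1, hw⟩)) fun w _ =>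
        (Set.ncard_le_one (Set.toFinite _)).2 fun D hD E hE => h.ty_eq hD.1 hE.1 hD.2 hE.2
  have h2 := one2_dc {w | w ≠ x} {D | Fac (S x) D} (fun w D => w ∈ Mv2 S x D) (m := 1)
    (n := (Mv2 S x C).ncard) (fun w hw => by
      obtain ⟨D, E, hD, hE, hne, k1, k2⟩ := hm x w (Ne.symm hw)
      refine (Set.ncard_pos (Set.toFinite _)).2 ?_
      by_cases k : w ∈ Ty S x D
      · exact ⟨E, hE, hw, fun k' => hne (h.ty_eq hD hE k k'), k2⟩
      · exact ⟨D, hD, hw, k, k1⟩) fun D hD => by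
      rw [← one2_Mv_card h.toU hC hD]
      exact Set.ncard_le_ncard fun w hw => hw.2
  exact Nat.le_of_mul_le_mul_left (h1.trans h2) ((Set.ncard_pos (Set.toFinite _)).2 ⟨C, hC⟩)

/-- the points moved by the block `V` which are not of the type of `V` at `z` -/
def W2 (S : X → Subgroup G) (V : Subgroup G) (z : X) : Set X :=
  {w | ¬ V ≤ stabilizer G w ∧ ∀ β ∈ Ed S z w, ¬ Same S z V β}

theorem One.mv_le (h : One S) (hV : Blk S V) (hC : Fac (S z) C) (hVC : V ≤ C) :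
    (Mv2 S z C).ncard ≤ (W2 S V z).ncard * ((Gam S V).ncard - 1) := by
  have hU := h.toU
  have hz : ∀ w, ¬ V ≤ stabilizer G w → z ≠ w := fun w k e =>
    k fun v hv => e ▸ hU.toFam.fac_fix hC (hVC hv)
  rw [← mul_one (Mv2 S z C).ncard]
  refine one2_dc _ _ (fun w w' => ∃ β ∈ Ed S z w, w' ∈ Gam S β) (fun w hw => ?_) fun w' hw' => ?_
  · obtain ⟨β, hβ⟩ := Ed_nonempty hU hV hw.1.symm
    obtain ⟨D, hD, hβD⟩ := hβ.2.1
    have hne : D ≠ C := fun e => hw.2.1 ⟨hw.1, β, hβ, e ▸ hβD⟩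
    obtain ⟨⟨v, hv⟩, v1⟩ := ne_bot_iff_exists_ne_one.1 hV.ne
    obtain ⟨w', k1, k2⟩ : ∃ w' ∈ Gam S β, v • w' ≠ w' := by
      by_contra! k
      exact hw.2.2 fun c hc => one1_fix hC.toNS (fun d hd p hp => smul_mem_Gam_of_normalizer hU
        (le_normalizer_of_ne hD hC hne hβD hd) hp) (hVC hv) (fun e => v1 (Subtype.ext e)) k c hc w hβ.2.2
    have k3 : ¬ V ≤ stabilizer G w' := fun k => k2 (k hv)
    refine (Set.ncard_pos (Set.toFinite _)).2 ⟨w', ⟨k3, fun β' hβ' ⟨E, hE, e1, e2⟩ => hne ?_⟩, β, hβ, k1⟩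
    obtain rfl := h.one z w' β β' (hz w' k3) ⟨hβ.1, hβ.2.1, k1⟩ hβ'
    exact (hβ.1.fac_eq hD hE hβD e2).trans (hV.fac_eq hE hC e1 hVC)
  · obtain ⟨β, hβ⟩ := Ed_nonempty hU hV (hz w' hw'.1)
    rw [← h.gam_card hV hβ.1, ← Set.ncard_sdiff_singleton_of_mem hβ.2.1]
    refine Set.ncard_le_ncard ?_
    rintro w ⟨hw, β', h1, h2⟩
    obtain rfl := h.one z w' β β' (hz w' hw'.1) hβ ⟨h1.1, h1.2.1, h2⟩
    exact ⟨h1.2.2, hw.1⟩

theorem One.w2_eq (h : One S) (hV : Blk S V) (hy : y ∈ Gam S V) (hz : z ∈ Gam S V)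
    (h1 : w ∈ W2 S V y) (h2 : w ∈ W2 S V z) : y = z := by
  have hU := h.toU
  have hne : ∀ z ∈ Gam S V, z ≠ w := fun z k e => h1.1 fun v hv => e ▸ fix_of_mem_Gam hU k hv
  obtain ⟨v, hv, k⟩ := SetLike.not_le_iff_exists.1 h1.1
  obtain ⟨β, hβ⟩ := Ed_nonempty hU hV (hne y hy)
  obtain ⟨β', hβ'⟩ := Ed_nonempty hU hV (hne z hz)
  obtain rfl := h.one w (v • w) β β' (Ne.symm k)
    ⟨hβ.1, hβ.2.2, cover hU hy hβ.2.1 (h1.2 β hβ) hv hβ.2.2⟩
    ⟨hβ'.1, hβ'.2.2, cover hU hz hβ'.2.1 (h2.2 β' hβ') hv hβ'.2.2⟩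
  by_contra e
  obtain rfl := h.one y z β V e ⟨hβ.1, hβ.2.1, hβ'.2.1⟩ ⟨hV, hy, hz⟩
  exact hne w hβ.2.2 rfl

theorem One.not_many (h : One S)
    (hm : ∀ x w : X, x ≠ w → ∃ C D : Subgroup G, Fac (S x) C ∧ Fac (S x) D ∧ C ≠ D ∧
      ¬ C ≤ stabilizer G w ∧ ¬ D ≤ stabilizer G w) : False := by
  have hU := h.toU
  obtain ⟨V, hV⟩ := h.blk
  obtain ⟨y, hy, x, hx, hyx⟩ := hV.exists_two
  obtain ⟨C, hC, hVC⟩ := id hy
  obtain ⟨z, hz, hmin⟩ := Set.exists_min_image (Gam S V) (fun z => (W2 S V z).ncard) (Set.toFinite _)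
    ⟨y, hy⟩
  obtain ⟨D, hD, hVD⟩ := hz
  have h1 := (h.ty_le hm hD).trans (h.mv_le hV hD hVD)
  have h2 := one2_dc (Gam S V \ {y}) (Ty S y C \ {x}) (fun z w => w ∈ W2 S V z) (m := (W2 S V z).ncard)
    (n := 1) (fun p hp => (hmin p hp.1).trans (Set.ncard_le_ncard fun w hw => by
      have hne : ∀ z ∈ Gam S V, w ≠ z := fun z k e => hw.1 fun v hv => e ▸ fix_of_mem_Gam hU k hv
      refine ⟨⟨?_, hne x hx⟩, hw⟩
      by_contra k
      exact hp.2 (h.w2_eq hV hp.1 hy hw ⟨hw.1, fun β hβ ⟨E, hE, e1, e2⟩ =>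
        k ⟨hne y hy, β, hβ, hV.fac_eq hE hC e1 hVC ▸ e2⟩⟩))) fun w _ =>
      (Set.ncard_le_one (Set.toFinite _)).2 fun a ha b hb => h.w2_eq hV ha.1.1 hb.1.1 ha.2 hb.2
  have h3 := Set.ncard_sdiff_singleton_lt_of_mem (s := Ty S y C) ⟨hyx.symm, V, ⟨hV, hy, hx⟩, hVC⟩
  rw [Set.ncard_sdiff_singleton_of_mem hy, mul_comm, mul_one] at h2
  rw [one2_Ty_card hU hC hD] at h1
  omega

theorem One.false (h : One S) : False := by
  refine h.not_unique fun x w C D hxw hC hD h1 h2 => by_contra fun hne => h.not_many fun x' w' k => ?_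
  obtain ⟨g, rfl, rfl⟩ := h.two hxw k
  exact ⟨_, _, h.toFam.fac_cj hC g, h.toFam.fac_cj hD g, fun e => hne (cj_injective g e),
    cj_le_stabilizer.not.2 h1, cj_le_stabilizer.not.2 h2⟩

end CfsgLib.ON2
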