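import Mathlib
import Cfsg.Agent.Lib.ON2.TI0
import Cfsg.Agent.Lib.OTI2.TS

/-! TI factors: involutions normalise the factors at their fixed points (package TIF1).  See `plans/ON2.md`. -/

set_option autoImplicit false

namespace CfsgLib.ON2

open Subgroup MulAction CfsgLib.Tech CfsgLib.OTI2

universe u

variable {G : Type u} [Group G] [Finite G] {X : Type u} [Finite X] [MulAction G X]
  {S : X → Subgroup G} {x y : X} {C D : Subgroup G}

theorem TI.strip (h : TI S) (hC : Fac (S x) C) (hD : Fac (S y) D) {t a : G}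
    (ht : t ∈ C) (h2 : orderOf t = 2) (hy : t • y = y) (hm : t ∉ normalizer (D : Set G))
    (ha : a ∈ D) : a * (t * a * t⁻¹) ∈ S y ∧ (a * (t * a * t⁻¹)) • x = x ∧
      a * (t * a * t⁻¹) ∈ normalizer (C : Set G) := by
  have tn := h.toFam.mem_normalizer hy
  refine ⟨mul_mem (hD.le ha) (conj_mem_of_mem_normalizer tn (hD.le ha)),
    h.fix_of_conj hC ht (by rintro rfl; simp at h2) ?_⟩
  rwa [strip_comm hD tn (by rw [← sq, ← h2, pow_orderOf_eq_one]) hm ha, mul_inv_cancel_right]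

theorem TI.moved_fix (h : TI S) (hxy : x ≠ y) (hC : Fac (S x) C) (hD : Fac (S y) D) {t : G}
    (ht : t ∈ C) (h2 : orderOf t = 2) (hy : t • y = y) (hm : t ∉ normalizer (D : Set G))
    (a : G) (ha : a ∈ D) (hx : a • x = x) : a = 1 := by
  have tn := h.toFam.mem_normalizer hy
  rcases eq_of_strip hD tn hm (R := D ⊓ stabilizer G x) inf_le_left fun d hd => by
    obtain ⟨s1, s2, -⟩ := h.strip hC hD ht h2 hy hm hd
    exact mem_normalizer_of_forall fun r hr => ⟨conj_mem_of_mem_normalizer (hD.nrm s1) hr.1,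
      (stabilizer G x).mul_mem (mul_mem s2 hr.2) ((stabilizer G x).inv_mem s2)⟩ with e | e
  · exact mem_bot.1 (e.le ⟨ha, hx⟩)
  have key : ∀ Y : Subgroup G, t ∈ Y → D ≤ normalizer (Y : Set G) → D ≤ Y := fun Y h1 h3 =>
    le_of_move hD tn hm h3 fun d hd => by
      rw [mul_assoc, mul_assoc, ← mul_assoc d]
      exact mul_mem h1 (conj_mem_of_mem_normalizer (h3 hd) (inv_mem h1))
  exact h.ti _ _ _ _ hxy hC hD a (key C ht ((key _ (hC.le ht) fun d hd =>
    h.toFam.mem_normalizer (e.ge hd).2).trans hC.nrm) ha) ha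

theorem TI.normalizes (h : TI S) (hxy : x ≠ y) (hC : Fac (S x) C) (hD : Fac (S y) D) {t : G}
    (ht : t ∈ C) (h2 : orderOf t = 2) (hy : t • y = y) : t ∈ normalizer (D : Set G) := by
  by_contra hm
  have t1 : t ≠ 1 := by rintro rfl; simp at h2
  have t2 : t * t = 1 := by rw [← sq, ← h2, pow_orderOf_eq_one]
  have tn := h.toFam.mem_normalizer hy
  obtain ⟨b, hb, b2⟩ := exists_invol hD.toNS
  have b1 : b ≠ 1 := by rintro rfl; simp at b2
  have h1 := h.moved_fix hxy hC hD ht h2 hy hm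
  have h3 : ∀ k ∈ C, k ∈ S y → k = 1 := fun k hk hk' => by
    by_contra k1
    obtain ⟨c, hc, e⟩ := exists_prj (h.semi y) hD hk'
    by_cases c1 : c = 1
    · refine b1 (h1 b hb (h.fix_of_comm hC hk k1 ?_))
      have := e b hb
      rw [c1, one_mul, inv_one, mul_one, mul_inv_eq_iff_eq_mul] at this
      exact this.symm
    · refine c1 (h1 c hc (h.fix_of_comm hC hk k1 ?_))
      have := e c hc
      rw [mul_inv_cancel_right, mul_inv_eq_iff_eq_mul] at this
      exact this.symm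
  have h4 : ∀ a ∈ C, a • y = y → a ∈ zpowers t := fun a ha hay => by
    have an := h.toFam.mem_normalizer hay
    rcases mem_normalizer_of_strip hD tn t2 hm an fun d hd => by
      obtain ⟨s1, -, s3⟩ := h.strip hC hD ht h2 hy hm hd
      rw [← mul_inv_eq_one, mul_inv_rev, ← mul_assoc]
      refine h3 _ ?_ (mul_mem (conj_mem_of_mem_normalizer an s1) (inv_mem s1))
      rw [mul_assoc, mul_assoc, ← mul_assoc _ a⁻¹]
      exact mul_mem ha (conj_mem_of_mem_normalizer s3 (inv_mem ha)) with e | e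
    · by_cases a1 : a = 1
      · exact a1 ▸ one_mem _
      · exact absurd (h1 b hb (h.fix_of_comm hC ha a1 (e b hb).symm)) b1
    · by_cases a1 : t * a = 1
      · exact eq_inv_of_mul_eq_one_right a1 ▸ inv_mem (mem_zpowers t)
      · exact absurd (h1 b hb (h.fix_of_comm hC (mul_mem ht ha) a1 (e b hb).symm)) b1
  obtain ⟨g, g1, g2⟩ := h.two hxy hxy.symm
  have hD' := h.toFam.fac_cj hC g
  rw [g1] at hD'
  refine t1 (conj_eq_one_iff.1 (h.moved_fix hxy hC hD' ht h2 hy (fun k => ?_) _ (conj_mem_cj.2 ht)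
    (by rw [← g2, mul_smul, mul_smul, inv_smul_smul, hy])))
  obtain ⟨K, L, hs, hK⟩ := (h.tp hxy hC hD').exists_sy_mem ⟨ht, k⟩ h2
  have s1 := hs.sylow hC.toNS
  have s2 := s1.eq_of_le (isPGroup_zpowers_iff.2 ⟨1, h2⟩) (fun a ha =>
    h4 a (hs.sK.le ha).1 (h.normalizer_le hD' (hs.sK.le ha).2)) (zpowers_le.2 ht)
  have s3 := hC.toNS.four_dvd
  rw [← card_mul_relIndex' s1.le, ← s2, Nat.card_zpowers, h2, s2] at s3
  exact s1.not_dvd (by omega)

end CfsgLib.ON2
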