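import Mathlib
import Cfsg.Agent.Lib.ON2.TI1

/-! TI factors: abelian Sylow subgroups (package TIF2).  See `plans/ON2.md`. -/

set_option autoImplicit false

namespace CfsgLib.ON2

open Subgroup MulAction CfsgLib.Tech CfsgLib.OTI2

universe u

variable {G : Type u} [Group G] [Finite G] {X : Type u} [Finite X] [MulAction G X]
  {S : X → Subgroup G} {x y : X} {C D : Subgroup G}

theorem mem_of_invol {P : Subgroup G} (hP : IsSylowIn 2 P C) {a : G} (ha : a ∈ C) (h2 : a * a = 1)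
    (hn : ∀ k ∈ P, a * k * a⁻¹ ∈ P) : a ∈ P :=
  hP.le_of_normalizes (isPGroup_zpowers_of_pow (k := 1) (by rwa [pow_one, sq])) (zpowers_le.2 ha)
    (zpowers_le.2 (mem_normalizer_of_forall hn)) (mem_zpowers a)

theorem TI.not_le (h : TI S) (hxy : x ≠ y) (hC : Fac (S x) C) : ¬ C ≤ stabilizer G y := by
  intro hy
  obtain ⟨D, hD, c, hc, d, hd, e⟩ := h.toU.not_comm hC hy
  have h1 : C ≤ KK C D := le_inf le_rfl (hC.toNS.le_of_invol fun a ha a2 => by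
    by_cases a1 : a = 1
    · exact a1 ▸ one_mem _
    · exact h.normalizes hxy hC hD ha (orderOf_eq_prime (by rwa [sq]) a1) (hy ha))
  have h2 : D ≤ KK D C := by
    by_contra k
    exact (h.tp hxy.symm hD hC).not_le_symm hD.toNS k h1
  exact e ((h.tp hxy hC hD).comm (h1 hc) (h2 hd))

theorem TI.inner (h : TI S) (hxy : x ≠ y) (hC : Fac (S x) C) (hD : Fac (S y) D) {t : G}
    (ht : t ∈ C) (h2 : orderOf t = 2) (hy : t • y = y) :
    ∃ s ∈ D, s * s = 1 ∧ s • x = x ∧ ∀ a ∈ D, t * a * t⁻¹ = s * a * s⁻¹ := by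
  obtain ⟨K, L, hs, hK⟩ := (h.tp hxy hC hD).exists_sy_mem ⟨ht, h.normalizes hxy hC hD ht h2 hy⟩ h2
  have hn : ¬ D ≤ KK D C := fun k => h.not_le hxy.symm hD ((k.trans inf_le_right).trans (h.normalizer_le hC))
  obtain ⟨s, s1, e⟩ := hs.symm.inner hD.toNS hn hK
  exact ⟨s, (hs.sL.le s1).1, hs.symm.elem hD.toNS hn s1, h.normalizer_le hC (hs.sL.le s1).2, e⟩

theorem TI.sylow (h : TI S) (hn : ¬ NF S) (hxy : x ≠ y) (hC : Fac (S x) C) :
    ∃ P, IsSylowIn 2 P C ∧ ∀ a, a ∈ P ↔ a ∈ C ∧ a * a = 1 ∧ a • y = y := by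
  obtain ⟨x', y', C', hC', t, ht, h2, hy, hne⟩ : ∃ (x y : X) (C : Subgroup G), Fac (S x) C ∧
      ∃ t ∈ C, orderOf t = 2 ∧ t • y = y ∧ y ≠ x := by
    by_contra k
    push Not at k
    exact hn ⟨h, k⟩
  obtain ⟨g, g1, g2⟩ := h.two hne hxy
  have hD := h.toFam.fac_cj hC' g
  rw [g2] at hD
  have o2 : orderOf (g * t * g⁻¹) = 2 := by
    rw [← h2]
    exact (MulAut.conj g).orderOf_eq t
  obtain ⟨L, K, hs, -⟩ := (h.tp hxy.symm hD hC).exists_sy_mem ⟨conj_mem_cj.2 ht, h.normalizes hxy.symm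
    hD hC (conj_mem_cj.2 ht) o2 (by rw [← g1, mul_smul, mul_smul, inv_smul_smul, hy])⟩ o2
  replace hs := hs.symm
  have hK : ¬ C ≤ KK C (cj g C') := fun k =>
    h.not_le hxy hC ((k.trans inf_le_right).trans (h.normalizer_le hD))
  have s1 := hs.sylow hC.toNS
  refine ⟨K, s1, fun a => ⟨fun ha => ⟨s1.le ha, hs.elem hC.toNS hK ha,
    h.normalizer_le hD (hs.sK.le ha).2⟩, fun ⟨a1, a2, a3⟩ => ?_⟩⟩
  by_cases a0 : a = 1
  · exact a0 ▸ one_mem _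
  refine mem_of_invol s1 a1 a2 fun k hk => ?_
  rwa [← hs.central hC.toNS hK hk ⟨a1, h.normalizes hxy hC hD a1 (orderOf_eq_prime (by rwa [sq]) a0) a3⟩,
    mul_inv_cancel_right]

theorem TI.nf (h : TI S) : NF S := by
  by_contra hn
  obtain ⟨x, y, hxy⟩ := h.ntriv
  obtain ⟨C, hC⟩ := h.toU.exists_fac x
  obtain ⟨C', hC', hne⟩ := h.many x C hC
  have nb : ∀ {P C : Subgroup G}, NS C → IsSylowIn 2 P C → P ≠ ⊥ := fun hs hP e =>
    hP.not_dvd (by rw [e, relIndex_bot_left]; exact (by norm_num : 2 ∣ 4).trans hs.four_dvd)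
  obtain ⟨P, hP, p1⟩ := h.sylow hn hxy hC
  obtain ⟨P', hP', p2⟩ := h.sylow hn hxy hC'
  obtain ⟨⟨t, ht⟩, t1⟩ := ne_bot_iff_exists_ne_one.1 (nb hC'.toNS hP')
  replace t1 : t ≠ 1 := fun e => t1 (Subtype.ext e)
  obtain ⟨tC, t2, ty⟩ := (p2 t).1 ht
  obtain ⟨g, hg, a, ha, e⟩ : ∃ g ∈ C, ∃ a ∈ P, g * a * g⁻¹ ∉ P := by
    by_contra k
    push Not at k
    exact (hC.toNS.normal hP.le fun g hg => mem_normalizer_of_forall (k g hg)).elim (nb hC.toNS hP)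
      fun e => h.not_le hxy hC fun a ha => ((p1 a).1 (e.ge ha)).2.2
  obtain ⟨aC, a2, ay⟩ := (p1 a).1 ha
  have bC : g * a * g⁻¹ ∈ C := mul_mem (mul_mem hg aC) (inv_mem hg)
  have b2 : g * a * g⁻¹ * (g * a * g⁻¹) = 1 := by rw [conj_mul, a2, mul_one, mul_inv_cancel]
  have by' : (g * a * g⁻¹) • g • y = g • y := by rw [mul_smul, mul_smul, inv_smul_smul, ay]
  have n1 : x ≠ g • y := fun k => hxy (by
    rw [← h.toFam.fac_fix hC hg] at k
    exact smul_left_cancel g k)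
  have n2 : g • y ≠ y := fun k => e ((p1 _).2 ⟨bC, b2, by rwa [k] at by'⟩)
  have ty' : t • g • y = g • y := by rw [← mul_smul, hC'.comm hC hne tC hg, mul_smul, ty]
  have o2 : orderOf t = 2 := orderOf_eq_prime (by rwa [sq]) t1
  obtain ⟨s, s1, s2, s3⟩ := exists_prod (H := stabilizer G y) (g := g * a * g⁻¹) (h.semi (g • y))
    fun D hD => by
    obtain ⟨r, r1, r2, -, r4⟩ := h.inner n1 hC' hD tC o2 ty'
    obtain ⟨Q, hQ, q1⟩ := h.sylow hn n2 hD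
    obtain ⟨Q', hQ', q2⟩ := h.sylow hn n1.symm hD
    have hr : r ∈ Q := mem_of_invol hQ r1 r2 fun k hk => by
      obtain ⟨k1, k2, k3⟩ := (q1 k).1 hk
      refine (q1 _).2 ⟨mul_mem (mul_mem r1 k1) (inv_mem r1),
        by rw [conj_mul, k2, mul_one, mul_inv_cancel], ?_⟩
      rw [← r4 k k1, mul_smul, mul_smul, inv_smul_eq_iff.2 ty.symm, k3, ty]
    have hq := hQ.eq_of_le hQ'.pgroup (fun k hk => by
      obtain ⟨k1, k2, -⟩ := (q1 k).1 hk
      refine (q2 k).2 ⟨k1, k2, h.fix_of_comm hC' tC t1 ?_⟩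
      have := ((q1 _).1 (mul_mem hr hk)).2.1
      rw [eq_comm, ← mul_inv_eq_iff_eq_mul, r4 k k1, inv_eq_of_mul_eq_one_left r2,
        ← mul_left_inj k, k2, mul_assoc]
      exact this) hQ'.le
    obtain ⟨s, s1, s2, s3, s4⟩ := h.inner n1 hC hD bC
      (orderOf_eq_prime (by rwa [sq]) fun k => e (k ▸ one_mem _)) by'
    exact ⟨s, s1, ((q1 s).1 (hq ▸ (q2 s).2 ⟨s1, s2, s3⟩)).2.2, s4⟩
  exact e ((p1 _).2 ⟨bC, b2, by rw [h.toU.eq_of_act by' s1 s3]; exact s2⟩)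

end CfsgLib.ON2
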